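import Cfsg.Agent.Lib.Known.G2Oct.Iso

/-!
# Trace and norm of Zorn's algebra, change of field
-/

set_option autoImplicit false

namespace CfsgLib.Known.G2Oct

open Cfsg.Lie (G2 zornMul zA zB dot3 cross3)
open CfsgLib.Classical.SylowAb.Octonion
open scoped Matrix

variable {F : Type*} [Field F]

/-- The trace. -/
def tr (x : Fin 8 → F) : F := x 0 + x 7

/-- The norm. -/
def nm (x : Fin 8 → F) : F := x 0 * x 7 - dot3 (zA F x) (zB F x)

theorem zornMul_add_left (x y z : Fin 8 → F) : zornMul (x + y) z = zornMul x z + zornMul y z := by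
  funext i; fin_cases i <;> simp [zornMul, zA, zB, dot3, cross3] <;> ring

theorem zornMul_add_right (x y z : Fin 8 → F) : zornMul x (y + z) = zornMul x y + zornMul x z := by
  funext i; fin_cases i <;> simp [zornMul, zA, zB, dot3, cross3] <;> ring

theorem zornMul_smul_left (r : F) (x y : Fin 8 → F) : zornMul (r • x) y = r • zornMul x y := by
  funext i; fin_cases i <;> simp [zornMul, zA, zB, dot3, cross3] <;> ring

theorem zornMul_smul_right (r : F) (x y : Fin 8 → F) : zornMul x (r • y) = r • zornMul x y := by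
  funext i; fin_cases i <;> simp [zornMul, zA, zB, dot3, cross3] <;> ring

theorem sq_eq (x : Fin 8 → F) : zornMul x x = tr x • x - nm x • oneO F := by
  funext i; fin_cases i <;> simp [zornMul, tr, nm, oneO, zVec, zA, zB, dot3, cross3] <;> ring

theorem nm_mul (x y : Fin 8 → F) : nm (zornMul x y) = nm x * nm y := by
  simp [zornMul, nm, zA, zB, dot3, cross3]; ring

theorem nm_smul (r : F) (x : Fin 8 → F) : nm (r • x) = r ^ 2 * nm x := by
  simp [nm, zA, zB, dot3]; ring

theorem tr_smul (r : F) (x : Fin 8 → F) : tr (r • x) = r * tr x := by simp [tr]; ring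

theorem tr_add (x y : Fin 8 → F) : tr (x + y) = tr x + tr y := by simp [tr]; ring

theorem tr_sub (x y : Fin 8 → F) : tr (x - y) = tr x - tr y := by simp [tr]; ring

theorem tr_mul_comm (x y : Fin 8 → F) : tr (zornMul x y) = tr (zornMul y x) := by
  simp [zornMul, tr, zA, zB, dot3]; ring

theorem polar (x y : Fin 8 → F) : nm (x + y) = nm x + nm y + tr x * tr y - tr (zornMul x y) := by
  simp [zornMul, tr, nm, zA, zB, dot3]; ring

theorem tr_oneO : tr (oneO F) = 2 := by simp [tr, oneO, zVec]; norm_num

theorem exists_tr_mul_ne_zero {x : Fin 8 → F} (hx : x ≠ 0) : ∃ y, tr (zornMul x y) ≠ 0 := by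
  by_contra h
  push_neg at h
  refine hx (funext fun i => ?_)
  have h0 := h (Pi.single 0 1); have h1 := h (Pi.single 1 1); have h2 := h (Pi.single 2 1)
  have h3 := h (Pi.single 3 1); have h4 := h (Pi.single 4 1); have h5 := h (Pi.single 5 1)
  have h6 := h (Pi.single 6 1); have h7 := h (Pi.single 7 1)
  simp [zornMul, tr, zA, zB, dot3, cross3] at h0 h1 h2 h3 h4 h5 h6 h7
  fin_cases i <;> assumption

theorem eq_of_smul_oneO {a b : F} (h : a • oneO F = b • oneO F) : a = b := by
  simpa [oneO, zVec] using congrFun h 0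

theorem oneO_ne_zero : oneO F ≠ 0 := fun h => one_ne_zero (α := F) (by simpa [oneO, zVec] using congrFun h 0)

theorem tr_act (g : G2 F) (x : Fin 8 → F) : tr (act g x) = tr x := by
  by_cases hx : ∃ c : F, x = c • oneO F
  · obtain ⟨c, rfl⟩ := hx; rw [map_smul, act_oneO]
  have h := congrArg (act g) (sq_eq x)
  rw [act_mul_apply, map_sub, map_smul, map_smul, act_oneO, sq_eq] at h
  by_contra hne
  refine hx ⟨(tr (act g x) - tr x)⁻¹ * (nm (act g x) - nm x), (act g).injective ?_⟩
  rw [map_smul, act_oneO, mul_smul]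
  refine (eq_inv_smul_iff₀ (sub_ne_zero.2 hne)).2 ?_
  linear_combination (norm := module) h

theorem nm_act (g : G2 F) (x : Fin 8 → F) : nm (act g x) = nm x := by
  have h := congrArg (act g) (sq_eq x)
  rw [act_mul_apply, map_sub, map_smul, map_smul, act_oneO, sq_eq, tr_act] at h
  exact eq_of_smul_oneO (sub_right_injective h)

theorem act_eq_mulVec (g : G2 F) (x : Fin 8 → F) :
    act g x = ((g : GL (Fin 8) F) : Matrix (Fin 8) (Fin 8) F) *ᵥ x := natAct_mulVec _ _

/-- The left multiplication identity determining the automorphism group. -/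
theorem mem_G2_iff (g : GL (Fin 8) F) :
    g ∈ G2 F ↔ ∀ a : Fin 8, (g : Matrix (Fin 8) (Fin 8) F) * ev 8 (leftE a) (1 : F) =
      lmul (fun i => (g : Matrix (Fin 8) (Fin 8) F) i a) * (g : Matrix (Fin 8) (Fin 8) F) := by
  constructor
  · intro hg a
    have e : lmul (Pi.single a (1 : F)) = ev 8 (leftE a) (1 : F) := by
      rw [lmul, Finset.sum_eq_single a]
      · simp
      · intro b _ hb; simp [hb]
      · simp
    refine Matrix.ext_of_mulVec_single fun j => ?_
    have := hg (Pi.single a 1) (Pi.single j 1)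
    simp only [Units.coeHom_apply, zornMul_eq_lmul, Matrix.mulVec_mulVec, Matrix.mulVec_single_one] at this
    rw [e] at this
    rw [Matrix.mulVec_single_one, Matrix.mulVec_single_one]
    exact this
  · intro h x y
    simp only [Units.coeHom_apply, zornMul_eq_lmul, Matrix.mulVec_mulVec]
    congr 1
    simp only [lmul, Finset.mul_sum, Finset.sum_mul, mul_smul_comm, h]
    simp only [smul_smul, Finset.smul_sum, smul_mul_assoc]
    rw [Finset.sum_comm]
    refine Finset.sum_congr rfl fun i _ => ?_
    rw [← Finset.sum_smul, Matrix.mulVec, dotProduct]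
    simp only [mul_comm]

theorem ev_map {K : Type*} [Field K] (f : F →+* K) (n : ℕ) (L : List Ent) (t : F) :
    (ev n L t).map f = ev n L (f t) := by
  induction L with
  | nil => exact Matrix.map_zero _ (map_zero f)
  | cons e L ih =>
    rw [ev_cons, ev_cons, ← ih, Matrix.map_add _ (map_add f)]
    congr 1
    ext i j
    simp only [Matrix.map_apply, ev1, Matrix.of_apply]
    split_ifs <;> simp

theorem lmul_map {K : Type*} [Field K] (f : F →+* K) (x : Fin 8 → F) : (lmul x).map f = lmul (f ∘ x) := by
  ext i j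
  simp [lmul, Matrix.sum_apply, map_sum, ← ev_map f 8 _ (1 : F) |>.trans (by rw [map_one])]

theorem map_mem {K : Type*} [Field K] (f : F →+* K) (g : GL (Fin 8) F) (hg : g ∈ G2 F) :
    Units.map (RingHom.mapMatrix f).toMonoidHom g ∈ G2 K := by
  rw [mem_G2_iff] at hg ⊢
  intro a
  have h := congrArg (fun M : Matrix (Fin 8) (Fin 8) F => M.map f) (hg a)
  simp only [Matrix.map_mul, ev_map, map_one, lmul_map] at h
  exact h

/-- Change of field. -/
noncomputable def mapG2 {K : Type*} [Field K] (f : F →+* K) : ↥(G2 F) →* ↥(G2 K) :=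
  ((Units.map (RingHom.mapMatrix f).toMonoidHom).comp (G2 F).subtype).codRestrict _ fun g => map_mem f _ g.2

theorem mapG2_val {K : Type*} [Field K] (f : F →+* K) (g : G2 F) :
    ((mapG2 f g : GL (Fin 8) K) : Matrix (Fin 8) (Fin 8) K) =
      ((g : GL (Fin 8) F) : Matrix (Fin 8) (Fin 8) F).map f := rfl

theorem mapG2_injective {K : Type*} [Field K] (f : F →+* K) : Function.Injective (mapG2 f) := fun g h e => by
  have e' := congrArg (fun x : G2 K => ((x : GL (Fin 8) K) : Matrix (Fin 8) (Fin 8) K)) e
  simp only [mapG2_val] at e'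
  exact Subtype.ext (Units.ext (Matrix.ext fun i j => f.injective (congrFun (congrFun e' i) j)))

theorem act_mapG2_comp {K : Type*} [Field K] (f : F →+* K) (σ : K →+* K) (hσ : ∀ c, σ (f c) = f c)
    (g : G2 F) (v : Fin 8 → K) : act (mapG2 f g) (σ ∘ v) = σ ∘ act (mapG2 f g) v := by
  rw [act_eq_mulVec, act_eq_mulVec, mapG2_val]
  funext i
  rw [Function.comp_apply, RingHom.map_mulVec, Matrix.map_map]
  congr 2
  ext a b
  exact (hσ _).symm

end CfsgLib.Known.G2Oct
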