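import Cfsg.Agent.Lib.Known.G2Oct.Semisimple
import Cfsg.Agent.Lib.Classical.SylowAb.G2

/-!
# Elements of `p`-power order centralising a semisimple automorphism
-/

set_option autoImplicit false

namespace CfsgLib.Known.G2Oct

open Cfsg.Lie (G2 zornMul zA zB dot3 cross3)
open CfsgLib.Classical.SylowAb.Octonion
open scoped Matrix

variable {K : Type*} [Field K] {p : ℕ} [Fact p.Prime] [CharP K p]

theorem sub_pow_eq_zero {n : Type*} [Fintype n] [DecidableEq n] [Nonempty n] {M : Matrix n n K} {c : K} {k : ℕ}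
    (h : M ^ p ^ k = c ^ p ^ k • (1 : Matrix n n K)) : (M - c • 1) ^ p ^ k = 0 := by
  haveI : CharP (Matrix n n K) p := charP_of_injective_algebraMap (algebraMap K _).injective p
  rw [sub_pow_char_pow_of_commute p k ((Commute.one_right M).smul_right c), smul_pow, one_pow, h, sub_self]

theorem pow_char_eq_of_sq {n : Type*} [Fintype n] [DecidableEq n] [Nonempty n] {M : Matrix n n K} {c : K} {r : ℕ}
    (hr : r ≤ p) (h : (M - c • 1) ^ r = 0) : M ^ p = c ^ p • (1 : Matrix n n K) := by
  haveI : CharP (Matrix n n K) p := charP_of_injective_algebraMap (algebraMap K _).injective p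
  have h' := pow_eq_zero_of_le hr h
  rwa [sub_pow_char_of_commute p ((Commute.one_right M).smul_right c), smul_pow, one_pow, sub_eq_zero] at h'

theorem pow_card_of_nilpotent {n : ℕ} {N : Matrix (Fin n) (Fin n) K} (h : IsNilpotent N) : N ^ n = 0 := by
  have hc : IsNilpotent (N.charpoly - Polynomial.X ^ Fintype.card (Fin n)) :=
    Matrix.isNilpotent_charpoly_sub_pow_of_isNilpotent h
  have e := Matrix.aeval_self_charpoly N
  rw [sub_eq_zero.1 hc.eq_zero, map_pow, Polynomial.aeval_X, Fintype.card_fin] at e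
  exact e

theorem pow_char_two_of_pow {M : Matrix (Fin 2) (Fin 2) K} {c : K} {k : ℕ}
    (h : M ^ p ^ k = c ^ p ^ k • (1 : Matrix (Fin 2) (Fin 2) K)) : M ^ p = c ^ p • (1 : Matrix (Fin 2) (Fin 2) K) :=
  pow_char_eq_of_sq (Fact.out : p.Prime).two_le (pow_card_of_nilpotent ⟨_, sub_pow_eq_zero h⟩)

/-- An idempotent of the quaternion part is moved to the standard one by a pair centralising the diagonal
elements with a fixed eigenvalue. -/
theorem exists_pair_quaternion {F : Type*} [Field F] {x : Fin 8 → F} (hx : x ∈ Idem F) (hN : zN x = 0) :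
    ∃ π : Pairs F, act (pairHom π) x = eO F ∧ ∃ u v, π.1.2 = diagPair (u, v) := by
  obtain ⟨hs, hp⟩ := hx
  have n1 := congrFun (congrFun hN 0) 0
  have n2 := congrFun (congrFun hN 1) 0
  have n3 := congrFun (congrFun hN 1) 1
  have n4 := congrFun (congrFun hN 0) 1
  simp [zN] at n1 n2 n3 n4
  simp [zA, zB, dot3, n1, n2, n3, n4] at hp
  obtain ⟨P, hd, h1⟩ : ∃ P : Matrix (Fin 2) (Fin 2) F, P.det ≠ 0 ∧ P * zH x = !![1, 0; 0, 0] * P := by
    by_cases h0 : x 0 = 0
    · rw [h0, zero_add] at hs
      rw [h0, zero_mul] at hp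
      refine ⟨!![x 4, 1; 1, -x 1], ?_, ?_⟩
      · rw [Matrix.det_fin_two_of]
        intro h
        exact one_ne_zero (α := F) (by linear_combination -h + hp)
      · ext i j
        fin_cases i <;> fin_cases j <;>
          simp [zH, Matrix.mul_apply, Fin.sum_univ_two, h0, hs] <;>
            first
              | ring1
              | linear_combination hp
              | linear_combination -hp
              | exact mul_eq_zero.1 (by linear_combination hp)
              | exact mul_eq_zero.1 (by linear_combination -hp)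
    · refine ⟨!![x 0, x 1; -x 4, x 0], ?_, ?_⟩
      · rw [Matrix.det_fin_two_of]
        intro h
        exact h0 (by linear_combination h + hp - (x 0) * hs)
      · ext i j
        fin_cases i <;> fin_cases j <;>
          simp [zH, Matrix.mul_apply, Fin.sum_univ_two] <;>
            first
              | ring1
              | linear_combination (x 0) * hs - hp
              | linear_combination (x 1) * hs
              | linear_combination -(x 4) * hs
              | linear_combination hp
              | linear_combination -hp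
  obtain ⟨g, hg⟩ : ∃ g, g = Matrix.GeneralLinearGroup.mkOfDetNeZero P hd := ⟨_, rfl⟩
  have hmem : (g, diagPair (Matrix.GeneralLinearGroup.det g, 1)) ∈ Pairs F := by
    show _ * _ = (1 : Fˣ)
    rw [show Matrix.GeneralLinearGroup.det (diagPair (Matrix.GeneralLinearGroup.det g, (1 : Fˣ))) =
      Matrix.GeneralLinearGroup.det g from Units.ext (by simp [diagPair, Matrix.det_fin_two])]
    exact mul_inv_cancel _
  refine ⟨⟨(g, diagPair (Matrix.GeneralLinearGroup.det g, 1)), hmem⟩, ?_, _, _, rfl⟩
  rw [act_pairHom]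
  have hg' : (g : Matrix (Fin 2) (Fin 2) F) = P := by rw [hg]; rfl
  refine z_ext ?_ ?_
  · rw [pairFun, zH_zMk, hg', h1, mul_assoc, ← hg', Units.mul_inv, mul_one]
    ext i j
    fin_cases i <;> fin_cases j <;> simp [zH, eO, zVec]
  · rw [pairFun, zN_zMk, hN, Matrix.mul_zero, Matrix.zero_mul]
    ext i j
    fin_cases i <;> fin_cases j <;> simp [zN, eO, zVec]

theorem wt_ne_one_of_fixed {d : Fin 3 → K} (hdet : d 0 * d 1 * d 2 = 1) (h0 : d 0 = 1) (h1 : d 1 ≠ 1) :
    d 2 ≠ 1 ∧ (d 1)⁻¹ ≠ 1 ∧ (d 2)⁻¹ ≠ 1 := by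
  rw [h0, one_mul] at hdet
  have h2 : d 2 ≠ 1 := fun e => h1 (by rwa [e, mul_one] at hdet)
  exact ⟨h2, fun e => h1 (inv_eq_one.1 e), fun e => h2 (inv_eq_one.1 e)⟩

/-- The entries of an element of `SL₃` commuting with a diagonal element. -/
theorem entry_eq_zero {A D : Matrix.SpecialLinearGroup (Fin 3) K} {d : Fin 3 → K}
    (hD : (D : Matrix (Fin 3) (Fin 3) K) = Matrix.diagonal d) (hc : Commute (slHom A) (slHom D)) {i j : Fin 3}
    (hne : d i ≠ d j) : (A : Matrix (Fin 3) (Fin 3) K) i j = 0 := by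
  have h : A * D = D * A := slHom_injective (by rw [map_mul, map_mul]; exact hc.eq)
  have h1 := congrArg (fun X : Matrix.SpecialLinearGroup (Fin 3) K => (X : Matrix (Fin 3) (Fin 3) K) i j) h
  simp only [Matrix.SpecialLinearGroup.coe_mul, hD, Matrix.mul_diagonal, Matrix.diagonal_mul] at h1
  exact (mul_eq_zero.1 (show (d j - d i) * (A : Matrix (Fin 3) (Fin 3) K) i j = 0 by linear_combination h1))
    |>.resolve_left (sub_ne_zero.2 fun e => hne e.symm)

/-- An element of `SL₃` with the block shape of the pairs. -/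
theorem exists_pair_of_block {A : Matrix.SpecialLinearGroup (Fin 3) K}
    (h01 : (A : Matrix (Fin 3) (Fin 3) K) 0 1 = 0) (h02 : (A : Matrix (Fin 3) (Fin 3) K) 0 2 = 0)
    (h10 : (A : Matrix (Fin 3) (Fin 3) K) 1 0 = 0) (h20 : (A : Matrix (Fin 3) (Fin 3) K) 2 0 = 0) :
    ∃ π : Pairs K, pairHom π = slHom A := by
  obtain ⟨M, hM⟩ : ∃ M, M = (A : Matrix (Fin 3) (Fin 3) K) := ⟨_, rfl⟩
  rw [← hM] at h01 h02 h10 h20
  have hd : M 0 0 * (M 1 1 * M 2 2 - M 1 2 * M 2 1) = 1 := by
    have h := A.2
    rw [← hM, Matrix.det_fin_three, h01, h02, h10, h20] at h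
    linear_combination h
  have h00 : M 0 0 ≠ 0 := fun e => zero_ne_one (α := K) (by rw [← hd, e, zero_mul])
  obtain ⟨c, hc⟩ : ∃ c : GL (Fin 2) K, (c : Matrix (Fin 2) (Fin 2) K) = !![M 1 1, M 1 2; M 2 1, M 2 2] :=
    ⟨Matrix.GeneralLinearGroup.mkOfDetNeZero _ (by
      rw [Matrix.det_fin_two_of]; exact right_ne_zero_of_mul (hd ▸ one_ne_zero)), rfl⟩
  obtain ⟨δ, hδ⟩ : ∃ δ : Kˣ, δ = Units.mk0 _ h00 := ⟨_, rfl⟩
  have hmem : (diagPair (1, δ⁻¹), c) ∈ Pairs K := by
    show _ * _ = (1 : Kˣ)
    rw [mul_inv_eq_one]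
    refine Units.ext ?_
    rw [Matrix.GeneralLinearGroup.val_det_apply, Matrix.GeneralLinearGroup.val_det_apply, hc, Matrix.det_fin_two_of]
    simp [diagPair, Matrix.det_fin_two, hδ]
    exact (eq_inv_of_mul_eq_one_right hd).symm
  refine ⟨⟨_, hmem⟩, act_injective (LinearEquiv.ext fun x => ?_)⟩
  rw [act_pairHom, act_slHom]
  have hi : (diagPair (1, δ⁻¹) : GL (Fin 2) K)⁻¹ = diagPair (1, δ) := by rw [← map_inv]; simp
  funext i
  fin_cases i <;>
    simp [pairFun, zMk, zH, zN, slFun, zVec, zA, zB, coM, hi, hc, diagPair, hδ, ← hM, Matrix.mulVec, dotProduct,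
      Fin.sum_univ_three, Matrix.adjugate_fin_three, Matrix.mul_apply, Fin.sum_univ_two, h01, h02, h10, h20] <;>
    first
      | ring1
      | (field_simp; done)
      | (field_simp; exact Or.inl hd.symm)
      | (field_simp; simp [← hd])
      | (field_simp; linear_combination hd)
      | (field_simp; linear_combination -hd)
      | (field_simp; linear_combination (x 4) * hd)
      | (field_simp; linear_combination -(x 4) * hd)

/-- Powers of a pair acting trivially. -/
theorem pow_char_of_pair [IsAlgClosed K] {π : Pairs K} {k : ℕ} (h : pairHom π ^ p ^ k = 1) : pairHom π ^ p = 1 := by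
  rw [← map_pow] at h
  obtain ⟨γ, hγ⟩ := exists_scalar_of_pairHom_eq_one h
  obtain ⟨c, hc⟩ := IsAlgClosed.exists_pow_nat_eq (γ : K) (pow_pos (Fact.out : p.Prime).pos k)
  have hc0 : c ≠ 0 := fun e => γ.ne_zero (by rw [← hc, e, zero_pow (pow_ne_zero _ (Fact.out : p.Prime).ne_zero)])
  have hdiag : ∀ e : Kˣ, ((diagPair (e, e) : GL (Fin 2) K) : Matrix (Fin 2) (Fin 2) K) = (e : K) • 1 := fun e => by
    ext i j; fin_cases i <;> fin_cases j <;> simp [diagPair]
  have h1 : ((π : GL (Fin 2) K × GL (Fin 2) K).1 : Matrix (Fin 2) (Fin 2) K) ^ p ^ k = c ^ p ^ k • 1 := by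
    have e := congrArg (fun z : GL (Fin 2) K × GL (Fin 2) K => (z.1 : Matrix (Fin 2) (Fin 2) K)) hγ
    simpa [hdiag, hc] using e
  have h2 : ((π : GL (Fin 2) K × GL (Fin 2) K).2 : Matrix (Fin 2) (Fin 2) K) ^ p ^ k = c ^ p ^ k • 1 := by
    have e := congrArg (fun z : GL (Fin 2) K × GL (Fin 2) K => (z.2 : Matrix (Fin 2) (Fin 2) K)) hγ
    simpa [hdiag, hc] using e
  obtain ⟨e, he⟩ : ∃ e : Kˣ, e = Units.mk0 _ (pow_ne_zero p hc0) := ⟨_, rfl⟩
  have he1 : (π : GL (Fin 2) K × GL (Fin 2) K).1 ^ p = diagPair (e, e) := Units.ext (by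
    rw [Units.val_pow_eq_pow_val, pow_char_two_of_pow h1, hdiag, he]; rfl)
  have he2 : (π : GL (Fin 2) K × GL (Fin 2) K).2 ^ p = diagPair (e, e) := Units.ext (by
    rw [Units.val_pow_eq_pow_val, pow_char_two_of_pow h2, hdiag, he]; rfl)
  rw [← map_pow, show π ^ p = ⟨(diagPair (e, e), diagPair (e, e)), pair_mem⟩ from Subtype.ext (Prod.ext he1 he2),
    pairHom_scalar]

/-- A fixed eigenvalue: a `p`-power order element in the centraliser has order dividing `p`. -/
theorem pow_eq_one_fixed [IsAlgClosed K] {D : Matrix.SpecialLinearGroup (Fin 3) K} {d : Fin 3 → K}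
    (hD : (D : Matrix (Fin 3) (Fin 3) K) = Matrix.diagonal d) (h0 : d 0 = 1) (h1 : d 1 ≠ 1)
    {u : G2 K} (hc : Commute u (slHom D)) {k : ℕ} (hu : u ^ p ^ k = 1) : u ^ p = 1 := by
  have hdet : d 0 * d 1 * d 2 = 1 := by
    have := D.2; rw [hD, Matrix.det_diagonal, Fin.prod_univ_three] at this; exact this
  obtain ⟨h2, h1', h2'⟩ := wt_ne_one_of_fixed hdet h0 h1
  obtain ⟨x, hx⟩ : ∃ x, x = act u (eO K) := ⟨_, rfl⟩
  have hfix : ∀ i, wt d i * x i = x i := fun i => by
    have e : act (slHom D) x = x := by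
      rw [hx, ← LinearEquiv.mul_apply, ← map_mul, ← hc.eq, map_mul, LinearEquiv.mul_apply, act_slHom_diag hD]
      congr 1
      funext i; fin_cases i <;> simp [wt, eO, zVec, h0]
    rw [act_slHom_diag hD] at e
    exact congrFun e i
  have hz : ∀ i, wt d i ≠ 1 → x i = 0 := fun i hi => by
    by_contra hne
    exact hi ((mul_eq_right₀ hne).1 (hfix i))
  have hN : zN x = 0 := by
    ext i j
    fin_cases i <;> fin_cases j
    · exact hz 2 (by simpa [wt] using h1)
    · exact hz 6 (by simpa [wt] using h2')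
    · exact hz 3 (by simpa [wt] using h2)
    · show -x 5 = 0
      rw [hz 5 (by simpa [wt] using h1'), neg_zero]
  obtain ⟨π, hπ, a, b, hab⟩ := exists_pair_quaternion (hx ▸ act_eO_mem u) hN
  obtain ⟨A, hA⟩ := exists_slHom_of_fix (g := pairHom π * u) (by rw [map_mul, LinearEquiv.mul_apply, ← hx, hπ])
  have hπD : Commute (pairHom π) (slHom D) := by
    obtain ⟨π', hπ'⟩ := exists_pair_of_block (A := D) (by simp [hD]) (by simp [hD]) (by simp [hD]) (by simp [hD])
    refine act_injective (LinearEquiv.ext fun y => ?_)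
    rw [map_mul, map_mul, LinearEquiv.mul_apply, LinearEquiv.mul_apply, act_slHom_diag hD, act_slHom_diag hD,
      act_pairHom, act_pairHom]
    funext i
    fin_cases i <;>
      simp [pairFun, zMk, zH, zN, hab, diagPair, wt, h0, Matrix.mul_apply, Fin.sum_univ_two] <;>
      first
        | ring1
        | (rw [eq_inv_of_mul_eq_one_left (show d 2 * d 1 = 1 by rw [h0] at hdet; linear_combination hdet)]; ring1)
        | (rw [eq_inv_of_mul_eq_one_left (show d 2 * d 1 = 1 by rw [h0] at hdet; linear_combination hdet), inv_inv];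
           ring1)
  have hAD : Commute (slHom A) (slHom D) := hA ▸ hπD.mul_left hc
  obtain ⟨π', hπ'⟩ := exists_pair_of_block (A := A)
    (entry_eq_zero hD hAD (by rw [h0]; exact h1.symm)) (entry_eq_zero hD hAD (by rw [h0]; exact h2.symm))
    (entry_eq_zero hD hAD (by rw [h0]; exact h1)) (entry_eq_zero hD hAD (by rw [h0]; exact h2))
  have hu' : u = pairHom (π⁻¹ * π') := by
    rw [map_mul, map_inv, hπ', hA, inv_mul_cancel_left]
  rw [hu'] at hu ⊢
  exact pow_char_of_pair hu

/-- No fixed eigenvalue: the centraliser fixes the idempotent. -/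
theorem exists_slHom_of_commute [IsAlgClosed K] {D : Matrix.SpecialLinearGroup (Fin 3) K} {d : Fin 3 → K}
    (hD : (D : Matrix (Fin 3) (Fin 3) K) = Matrix.diagonal d) (h1 : ∀ i, d i ≠ 1)
    {u : G2 K} (hc : Commute u (slHom D)) {k : ℕ} (hu : u ^ p ^ k = 1) : ∃ A, slHom A = u := by
  refine exists_slHom_of_fix ?_
  have hdet : d 0 * d 1 * d 2 = 1 := by
    have := D.2; rw [hD, Matrix.det_diagonal, Fin.prod_univ_three] at this; exact this
  have hD0 : act (slHom D) (eO K) = eO K := by
    rw [act_slHom_diag hD]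
    funext i; fin_cases i <;> simp [wt, eO, zVec]
  have hxmem : ∀ x ∈ Idem K, act (slHom D) x = x → x = eO K ∨ x = oneO K - eO K := by
    intro x hx hfix
    rw [act_slHom_diag hD] at hfix
    have hz : ∀ i, wt d i ≠ 1 → x i = 0 := fun i hi => by
      by_contra hne
      exact hi ((mul_eq_right₀ hne).1 (congrFun hfix i))
    have z1 := hz 1 (by simpa [wt] using h1 0)
    have z2 := hz 2 (by simpa [wt] using h1 1)
    have z3 := hz 3 (by simpa [wt] using h1 2)
    have z4 := hz 4 (by simpa [wt] using h1 0)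
    have z5 := hz 5 (by simpa [wt] using h1 1)
    have z6 := hz 6 (by simpa [wt] using h1 2)
    obtain ⟨hs, hp⟩ := hx
    simp [zA, zB, dot3, z1, z2, z3, z4, z5, z6] at hp
    rcases hp with e | e
    · refine Or.inr (funext fun i => ?_)
      rw [e, zero_add] at hs
      fin_cases i <;> simp [oneO, eO, zVec, z1, z2, z3, z4, z5, z6, e, hs]
    · refine Or.inl (funext fun i => ?_)
      rw [e, add_zero] at hs
      fin_cases i <;> simp [eO, zVec, z1, z2, z3, z4, z5, z6, e, hs]
  have hfx : ∀ v : G2 K, Commute v (slHom D) → act (slHom D) (act v (eO K)) = act v (eO K) := fun v hv => by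
    rw [← LinearEquiv.mul_apply, ← map_mul, ← hv.eq, map_mul, LinearEquiv.mul_apply, hD0]
  rcases hxmem _ (act_eO_mem u) (hfx u hc) with h | h
  · exact h
  exfalso
  by_cases hp : p = 2
  · -- the two eigenspaces would have the same eigenvalues
    obtain ⟨y, hy⟩ : ∃ y, y = act u (Pi.single 1 1) := ⟨_, rfl⟩
    have e1 : zornMul (eO K) (Pi.single 1 1) = Pi.single 1 1 := by
      funext k; fin_cases k <;> simp [zornMul, eO, zVec, zA, zB, dot3, cross3]
    have e2 := congrArg (act u) e1
    rw [act_mul_apply, h, ← hy] at e2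
    have y1 := congrFun e2 0; have y2 := congrFun e2 1; have y3 := congrFun e2 2; have y4 := congrFun e2 3
    simp [zornMul, oneO, eO, zVec, zA, zB, dot3, cross3] at y1 y2 y3 y4
    have hy0 : y ≠ 0 := fun e => by
      have := (act u).injective ((hy ▸ e).trans (map_zero (act u)).symm)
      exact one_ne_zero (α := K) (by simpa using congrFun this 1)
    have e3 : act (slHom D) y = d 0 • y := by
      rw [hy, ← LinearEquiv.mul_apply, ← map_mul, ← hc.eq, map_mul, LinearEquiv.mul_apply, ← map_smul]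
      congr 1
      rw [act_slHom_diag hD]
      funext i; fin_cases i <;> simp [wt]
    rw [act_slHom_diag hD] at e3
    obtain ⟨i, hi⟩ := Function.ne_iff.1 hy0
    have e4 : wt d i = d 0 := mul_right_cancel₀ hi (congrFun e3 i)
    have hc' : ∀ j, (d j)⁻¹ = d 0 → False := fun j hj => by
      have hj0 : d j ≠ 0 := fun e => h1 0 (by
        rw [e, inv_zero] at hj; rw [← hj, zero_mul, zero_mul] at hdet; exact absurd hdet zero_ne_one)
      have hjj : d j * d 0 = 1 := by rw [← hj, mul_inv_cancel₀ hj0]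
      fin_cases j
      · subst hp
        refine h1 0 (sub_eq_zero.1 (pow_eq_zero_iff (n := 2) two_ne_zero |>.1 ?_))
        change d 0 * d 0 = 1 at hjj
        linear_combination hjj - (d 0 - 1) * CharTwo.two_eq_zero (R := K)
      · exact h1 2 (by simp at hjj; linear_combination hdet - d 2 * hjj)
      · exact h1 1 (by simp at hjj; linear_combination hdet - d 1 * hjj)
    fin_cases i
    · exact hi y1.symm
    · exact hi y2.symm
    · exact hi y3.symm
    · exact hi y4.symm
    · exact hc' 0 (by simpa [wt] using e4)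
    · exact hc' 1 (by simpa [wt] using e4)
    · exact hc' 2 (by simpa [wt] using e4)
    · exact h1 0 (by simpa [wt] using e4.symm)
  · -- an element of odd order cannot swap
    have hsw : act u (act u (eO K)) = eO K := by rw [h, map_sub, act_oneO, h, sub_sub_cancel]
    have hodd : Odd (p ^ k) := ((Fact.out : p.Prime).odd_of_ne_two hp).pow
    obtain ⟨j, hj⟩ := hodd
    have hev : ∀ i, act (u ^ (2 * i)) (eO K) = eO K := by
      intro i
      induction i with
      | zero => simp
      | succ i ih => rw [mul_add, pow_add, map_mul, LinearEquiv.mul_apply, mul_one, pow_two, map_mul,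
          LinearEquiv.mul_apply, hsw, ih]
    have e := congrArg (fun v => act v (eO K)) (hj ▸ hu)
    simp only [pow_succ', map_mul, LinearEquiv.mul_apply, hev, map_one, LinearEquiv.coe_one, id_eq, h] at e
    have := congrFun e 0
    simp [oneO, eO, zVec] at this

/-- Distinct eigenvalues: the centraliser has no elements of order `p`. -/
theorem eq_one_distinct [IsAlgClosed K] {D : Matrix.SpecialLinearGroup (Fin 3) K} {d : Fin 3 → K}
    (hD : (D : Matrix (Fin 3) (Fin 3) K) = Matrix.diagonal d) (h1 : ∀ i, d i ≠ 1) (hinj : Function.Injective d)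
    {u : G2 K} (hc : Commute u (slHom D)) {k : ℕ} (hu : u ^ p ^ k = 1) : u = 1 := by
  obtain ⟨A, rfl⟩ := exists_slHom_of_commute hD h1 hc hu
  have hA : (A : Matrix (Fin 3) (Fin 3) K) = Matrix.diagonal fun i => (A : Matrix (Fin 3) (Fin 3) K) i i := by
    ext i j
    by_cases h : i = j
    · subst h; simp
    · rw [Matrix.diagonal_apply_ne _ h, entry_eq_zero hD hc fun e => h (hinj e)]
  rw [← map_pow] at hu
  have hu' := congrArg (fun X : Matrix.SpecialLinearGroup (Fin 3) K => (X : Matrix (Fin 3) (Fin 3) K))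
    (slHom_injective (hu.trans (map_one _).symm))
  simp only [Matrix.SpecialLinearGroup.coe_pow, Matrix.SpecialLinearGroup.coe_one] at hu'
  rw [hA, Matrix.diagonal_pow, ← Matrix.diagonal_one] at hu'
  have hii : ∀ i, (A : Matrix (Fin 3) (Fin 3) K) i i = 1 := fun i => by
    have h : ((A : Matrix (Fin 3) (Fin 3) K) i i - 1) ^ p ^ k = 0 := by
      rw [sub_pow_char_pow, one_pow, sub_eq_zero]
      exact congrFun (Matrix.diagonal_injective hu') i
    exact sub_eq_zero.1 (eq_zero_of_pow_eq_zero h)
  rw [show A = 1 from Subtype.ext (by rw [hA]; simp [hii]), map_one]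

/-- A repeated eigenvalue: the order divides `p`, or `4` in the scalar case. -/
theorem pow_eq_one_repeat [IsAlgClosed K] {D : Matrix.SpecialLinearGroup (Fin 3) K} {d : Fin 3 → K}
    (hD : (D : Matrix (Fin 3) (Fin 3) K) = Matrix.diagonal d) (h1 : ∀ i, d i ≠ 1)
    {u : G2 K} (hc : Commute u (slHom D)) {k : ℕ} (hu : u ^ p ^ k = 1) :
    (p ≠ 2 → u ^ p = 1) ∧ (d 0 ≠ d 1 → d 0 ≠ d 2 → u ^ p = 1) ∧ (p = 2 → u ^ 4 = 1) := by
  obtain ⟨A, rfl⟩ := exists_slHom_of_commute hD h1 hc hu
  rw [← map_pow] at hu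
  have hu' := congrArg (fun X : Matrix.SpecialLinearGroup (Fin 3) K => (X : Matrix (Fin 3) (Fin 3) K))
    (slHom_injective (hu.trans (map_one _).symm))
  simp only [Matrix.SpecialLinearGroup.coe_pow, Matrix.SpecialLinearGroup.coe_one] at hu'
  obtain ⟨N, hN⟩ : ∃ N, N = (A : Matrix (Fin 3) (Fin 3) K) - (1 : K) • 1 := ⟨_, rfl⟩
  have hnil : N ^ p ^ k = 0 := hN ▸ sub_pow_eq_zero (by rw [hu', one_pow, one_smul])
  have h3 : N ^ 3 = 0 := pow_card_of_nilpotent ⟨_, hnil⟩
  have fin : ∀ n, (A : Matrix (Fin 3) (Fin 3) K) ^ n = 1 → slHom A ^ n = 1 := fun n e => by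
    rw [← map_pow, show A ^ n = 1 from Subtype.ext (by
      rw [Matrix.SpecialLinearGroup.coe_pow, e, Matrix.SpecialLinearGroup.coe_one]), map_one]
  refine ⟨fun hp => fin p ?_, fun h01 h02 => fin p ?_, fun hp => fin 4 ?_⟩
  · have := pow_char_eq_of_sq (p := p) (c := (1 : K))
      (by have := (Fact.out : p.Prime).two_le; omega : 3 ≤ p) (hN ▸ h3)
    rwa [one_pow, one_smul] at this
  · have h2 : N ^ 2 = 0 := by
      have n01 : N 0 1 = 0 := by rw [hN]; simp [entry_eq_zero hD hc h01]
      have n02 : N 0 2 = 0 := by rw [hN]; simp [entry_eq_zero hD hc h02]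
      have n10 : N 1 0 = 0 := by rw [hN]; simp [entry_eq_zero hD hc h01.symm]
      have n20 : N 2 0 = 0 := by rw [hN]; simp [entry_eq_zero hD hc h02.symm]
      have e : ∀ i j, (N ^ 3) i j = 0 := fun i j => by rw [h3]; rfl
      have e00 := e 0 0; have e11 := e 1 1; have e12 := e 1 2; have e21 := e 2 1; have e22 := e 2 2
      simp [pow_three, Matrix.mul_apply, Fin.sum_univ_three, n01, n02, n10, n20] at e00 e11 e12 e21 e22
      -- the lower block has trace and determinant zero
      obtain ⟨B, hB⟩ : ∃ B : Matrix (Fin 2) (Fin 2) K, B = !![N 1 1, N 1 2; N 2 1, N 2 2] := ⟨_, rfl⟩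
      have hB3 : B ^ 3 = 0 := by
        ext i j
        fin_cases i <;> fin_cases j <;>
          simp [hB, pow_three, Matrix.mul_apply, Fin.sum_univ_two] <;>
          first
            | linear_combination e11
            | linear_combination e12
            | linear_combination e21
            | linear_combination e22
      have hB2 : B ^ 2 = 0 := pow_card_of_nilpotent ⟨3, hB3⟩
      have b : ∀ i j, (B ^ 2) i j = 0 := fun i j => by rw [hB2]; rfl
      have b00 := b 0 0; have b01 := b 0 1; have b10 := b 1 0; have b11 := b 1 1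
      simp [hB, pow_two, Matrix.mul_apply, Fin.sum_univ_two] at b00 b01 b10 b11
      ext i j
      fin_cases i <;> fin_cases j <;>
        simp [pow_two, Matrix.mul_apply, Fin.sum_univ_three, n01, n02, n10, n20] <;>
        first
          | exact e00
          | linear_combination b00
          | linear_combination b01
          | linear_combination b10
          | linear_combination b11
    have := pow_char_eq_of_sq (p := p) (c := (1 : K)) (Fact.out : p.Prime).two_le (hN ▸ h2)
    rwa [one_pow, one_smul] at this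
  · haveI : CharP (Matrix (Fin 3) (Fin 3) K) p := charP_of_injective_algebraMap (algebraMap K _).injective p
    have h4 : N ^ p ^ 2 = 0 := pow_eq_zero_of_le (by rw [hp]; norm_num) h3
    rw [hN, sub_pow_char_pow_of_commute p 2 ((Commute.one_right _).smul_right _), smul_pow, one_pow, one_pow,
      one_smul, sub_eq_zero, hp] at h4
    exact h4

end CfsgLib.Known.G2Oct
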