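import Cfsg.Agent.Lib.Known.G2Oct.Torus
import Cfsg.Agent.Lib.Known.G2Oct.Unipotent

/-!
# Upper bounds for the element orders of `G₂(q)`
-/

set_option autoImplicit false

namespace CfsgLib.Known.G2Oct

open Cfsg.Lie (G2 zornMul zA zB dot3 cross3)
open CfsgLib.Classical.SylowAb.Octonion
open scoped Matrix

variable {K : Type*} [Field K]

theorem frob_semilinear (σ : K →+* K) (c : K) (v : Fin 8 → K) : σ ∘ (c • v) = σ c • (σ ∘ v) := by
  funext i; simp

/-- The eigenvalues of a diagonal form of `s` are permuted by `σ`. -/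
theorem wt_map (s h : G2 K) (σ : K →+* K) (hσ : Function.Surjective σ)
    (hs : ∀ v, act s (σ ∘ v) = σ ∘ act s v)
    {D : Matrix.SpecialLinearGroup (Fin 3) K} {d : Fin 3 → K}
    (hD : (D : Matrix (Fin 3) (Fin 3) K) = Matrix.diagonal d) (hh : h * s * h⁻¹ = slHom D) :
    (∀ j, ∃ i, wt d i = σ (wt d j)) ∧
      ∀ j j', j ≠ j' → wt d j = wt d j' → ∃ i i', i ≠ i' ∧ wt d i = σ (wt d j) ∧ wt d i' = σ (wt d j) := by
  obtain ⟨L, hL⟩ : ∃ L : (Fin 8 → K) → (Fin 8 → K), ∀ v, L v = act h (σ ∘ act h⁻¹ v) := ⟨_, fun _ => rfl⟩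
  have hLs : ∀ (c : K) (v : Fin 8 → K), L (c • v) = σ c • L v := fun c v => by
    rw [hL, hL, map_smul, frob_semilinear, map_smul]
  have hinv : ∀ v, act h⁻¹ (act h v) = v := fun v => by
    rw [← LinearEquiv.mul_apply, ← map_mul, inv_mul_cancel, map_one]; rfl
  have hLD : ∀ v, act (slHom D) (L v) = L (act (slHom D) v) := fun v => by
    rw [hL, hL, ← hh]
    simp only [map_mul, LinearEquiv.mul_apply, hinv, hs]
  have hinj : Function.Injective L := by
    intro v w e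
    rw [hL, hL] at e
    have e' := (act h).injective e
    exact (act h⁻¹).injective (funext fun i => σ.injective (congrFun e' i))
  have he : ∀ j, act (slHom D) (Pi.single j (1 : K)) = wt d j • Pi.single j (1 : K) := fun j => by
    rw [act_slHom_diag hD]
    funext i
    by_cases hij : i = j
    · subst hij; simp
    · simp [Pi.single_eq_of_ne hij]
  have hsupp : ∀ j i, L (Pi.single j 1) i ≠ 0 → wt d i = σ (wt d j) := fun j i hi => by
    have e := hLD (Pi.single j 1)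
    rw [he, hLs, act_slHom_diag hD] at e
    exact mul_right_cancel₀ hi (congrFun e i)
  have hne : ∀ j, ∃ i, L (Pi.single j (1 : K)) i ≠ 0 := fun j => by
    refine Function.ne_iff.1 fun e => ?_
    have h0 : L (0 : Fin 8 → K) = 0 := by rw [← zero_smul K (0 : Fin 8 → K), hLs, map_zero, zero_smul, zero_smul]
    exact one_ne_zero (α := K) (by simpa using congrFun (hinj (e.trans h0.symm)) j)
  refine ⟨fun j => ?_, fun j j' hjj hw => ?_⟩
  · obtain ⟨i, hi⟩ := hne j
    exact ⟨i, hsupp j i hi⟩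
  · obtain ⟨i, hi⟩ := hne j
    by_contra hcon
    push Not at hcon
    have only : ∀ k, L (Pi.single j (1 : K)) k ≠ 0 ∨ L (Pi.single j' (1 : K)) k ≠ 0 → k = i := fun k hk => by
      by_contra hki
      refine hcon i k (fun e => hki e.symm) (hsupp j i hi) ?_
      rcases hk with hk | hk
      · exact hsupp j k hk
      · exact (hsupp j' k hk).trans (by rw [hw])
    obtain ⟨c, hc⟩ := hσ (L (Pi.single j' 1) i / L (Pi.single j 1) i)
    have e : L (Pi.single j' 1) = L (c • Pi.single j 1) := by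
      rw [hLs, hc]
      funext k
      by_cases hk : k = i
      · subst hk; simp [div_mul_cancel₀ _ hi]
      · have h1 : L (Pi.single j (1 : K)) k = 0 := by_contra fun e => hk (only k (Or.inl e))
        have h2 : L (Pi.single j' (1 : K)) k = 0 := by_contra fun e => hk (only k (Or.inr e))
        simp [h1, h2]
    have := congrFun (hinj e) j'
    simp [Pi.single_eq_of_ne hjj.symm] at this

theorem wt_values (d : Fin 3 → K) (i : Fin 8) : wt d i = 1 ∨ ∃ j, wt d i = d j ∨ wt d i = (d j)⁻¹ := by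
  fin_cases i
  · exact Or.inl rfl
  · exact Or.inr ⟨0, Or.inl rfl⟩
  · exact Or.inr ⟨1, Or.inl rfl⟩
  · exact Or.inr ⟨2, Or.inl rfl⟩
  · exact Or.inr ⟨0, Or.inr rfl⟩
  · exact Or.inr ⟨1, Or.inr rfl⟩
  · exact Or.inr ⟨2, Or.inr rfl⟩
  · exact Or.inl rfl

theorem slHom_pow_eq_one {D : Matrix.SpecialLinearGroup (Fin 3) K} {d : Fin 3 → K}
    (hD : (D : Matrix (Fin 3) (Fin 3) K) = Matrix.diagonal d) {n : ℕ} (h : ∀ i, d i ^ n = 1) :
    slHom D ^ n = 1 := by
  rw [← map_pow, show D ^ n = 1 from Subtype.ext (by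
    rw [Matrix.SpecialLinearGroup.coe_pow, hD, Matrix.diagonal_pow, Matrix.SpecialLinearGroup.coe_one,
      show d ^ n = fun _ => (1 : K) from funext h, Matrix.diagonal_one]), map_one]

/-- The cases for a semisimple part other than the identity and a commuting unipotent part. -/
theorem cases_of_semisimple [IsAlgClosed K] {p q : ℕ} [Fact p.Prime] [CharP K p] (hq : 1 ≤ q) (s u : G2 K)
    (σ : K →+* K) (hσq : ∀ x, σ x = x ^ q) (hs : ∀ v, act s (σ ∘ v) = σ ∘ act s v) {m k : ℕ}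
    (hm : (m : K) ≠ 0) (hsm : s ^ m = 1) (hne : s ≠ 1) (hc : Commute u s) (hu : u ^ p ^ k = 1) :
    (∃ n, (n = q - 1 ∨ n = q + 1) ∧ s ^ n = 1 ∧ u ^ p = 1) ∨
    (∃ n, (n = q ^ 2 - 1 ∨ n = q ^ 2 + q + 1 ∨ n = q ^ 2 - q + 1) ∧ s ^ n = 1 ∧ u = 1) ∨
    (p = 2 ∧ s ^ 3 = 1 ∧ u ^ 4 = 1) := by
  obtain ⟨h, D, d, hD, hnf, hh, hD1⟩ := exists_diag_conj s hm hsm hne
  have hσs : Function.Surjective σ := fun y => by
    obtain ⟨x, hx⟩ := IsAlgClosed.exists_pow_nat_eq y (show 0 < q by omega)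
    exact ⟨x, (hσq x).trans hx⟩
  obtain ⟨hmap, hrep⟩ := wt_map s h σ hσs hs hD hh
  have hinj : ∀ x y : K, x ^ q = y ^ q → x = y := fun x y e => σ.injective (by rwa [hσq, hσq])
  have hinj1 : ∀ x : K, x ^ q = 1 → x = 1 := fun x e => hinj x 1 (e.trans (one_pow q).symm)
  have hdet : d 0 * d 1 * d 2 = 1 := by
    have := D.2; rw [hD, Matrix.det_diagonal, Fin.prod_univ_three] at this; exact this
  have back : ∀ {x : G2 K} {n : ℕ}, (h * x * h⁻¹) ^ n = 1 → x ^ n = 1 := fun {x n} e => by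
    rw [conj_pow] at e; exact conj_eq_one_iff.1 e
  have hs' : ∀ {n : ℕ}, (∀ i, d i ^ n = 1) → s ^ n = 1 := fun e => back (hh ▸ slHom_pow_eq_one hD e)
  have hu' : (h * u * h⁻¹) ^ p ^ k = 1 := by rw [conj_pow, hu, mul_one, mul_inv_cancel]
  have hc' : Commute (h * u * h⁻¹) (slHom D) := hh ▸ (show Commute (h * u * h⁻¹) (h * s * h⁻¹) by
    show _ * _ = _ * _
    simp only [mul_assoc, inv_mul_cancel_left]
    rw [← mul_assoc u s, hc.eq, mul_assoc])
  by_cases h1 : ∃ i, d i = 1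
  · have h0 := hnf.1 h1
    have hd1 : d 1 ≠ 1 := fun e => hD1 (by
      refine pow_one (slHom D) ▸ slHom_pow_eq_one hD fun i => ?_
      rw [h0, e, one_mul, one_mul] at hdet
      fin_cases i <;> simp [h0, e, hdet])
    have h12 : d 1 * d 2 = 1 := by rwa [h0, one_mul] at hdet
    have e2 : d 2 = (d 1)⁻¹ := eq_inv_of_mul_eq_one_right h12
    obtain ⟨i, hi⟩ := hmap 2
    rw [hσq] at hi
    have hi' : wt d i = d 1 ^ q := hi
    obtain ⟨n, hn, a, b⟩ := torus_fixed hq hinj1 h12 (by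
      rcases wt_values d i with e | ⟨j, e | e⟩
      · exact Or.inr (Or.inr (hi'.symm.trans e))
      all_goals
        rw [e] at hi'
        fin_cases j <;> simp [h0, e2] at hi' ⊢ <;> tauto)
    refine Or.inl ⟨n, hn, hs' fun i => ?_, back (pow_eq_one_fixed hD h0 hd1 hc' hu')⟩
    fin_cases i
    · simp [h0]
    · exact a
    · exact b
  push Not at h1
  have hd0 : ∀ i, d i ≠ 0 := fun i e => zero_ne_one (α := K) (by rw [← hdet]; fin_cases i <;> simp_all)
  by_cases hi : Function.Injective d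
  · obtain ⟨n, hn, e⟩ := torus_distinct hq hinj d hdet h1 hi fun i => by
      have key : ∀ i : Fin 3, ∃ j : Fin 8, wt d j = d i := fun i => by
        fin_cases i
        · exact ⟨1, rfl⟩
        · exact ⟨2, rfl⟩
        · exact ⟨3, rfl⟩
      obtain ⟨j, hj⟩ := key i
      obtain ⟨k', hk'⟩ := hmap j
      rw [hj, hσq] at hk'
      rcases wt_values d k' with e | ⟨l, e | e⟩
      · exact absurd (hinj1 _ (hk'.symm.trans e)) (h1 i)
      · exact ⟨l, Or.inl (hk'.symm.trans e)⟩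
      · exact ⟨l, Or.inr (hk'.symm.trans e)⟩
    refine Or.inr (Or.inl ⟨n, hn, hs' e, ?_⟩)
    exact conj_eq_one_iff.1 (eq_one_distinct hD h1 hi hc' hu')
  have h12 := hnf.2 h1 hi
  have h00 : d 0 = (d 1 ^ 2)⁻¹ := eq_inv_of_mul_eq_one_left (by rw [← h12] at hdet; linear_combination hdet)
  obtain ⟨hodd, hblock, htwo⟩ := pow_eq_one_repeat hD h1 hc' hu'
  have hx2 : d 1 ^ 2 ≠ 1 := fun e => h1 0 (by rw [h00, e, inv_one])
  obtain ⟨n, hn, e⟩ := torus_repeat hq hinj1 (hd0 1) hx2 (by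
    obtain ⟨a, a', haa, ha, ha'⟩ := hrep 2 3 (by decide) h12
    have ha : wt d a = d 1 ^ q := ha.trans (hσq _)
    have ha' : wt d a' = d 1 ^ q := ha'.trans (hσq _)
    have hne1 : d 1 ^ q ≠ 1 := fun e => h1 1 (hinj1 _ e)
    fin_cases a <;> fin_cases a' <;>
      first
        | exact absurd rfl haa
        | (simp [wt, h00, ← h12] at ha ha' hne1
           first
             | exact absurd ha.symm hne1
             | exact absurd ha'.symm hne1
             | exact Or.inl ha.symm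
             | exact Or.inl ha'.symm
             | exact Or.inr (Or.inl ha.symm)
             | exact Or.inr (Or.inl ha'.symm)
             | exact Or.inr (Or.inr (Or.inl ⟨ha.symm, Or.inr (Or.inr (ha.trans ha'.symm))⟩))
             | exact Or.inr (Or.inr (Or.inl ⟨ha'.symm, Or.inr (Or.inr (ha'.trans ha.symm))⟩))))
  have hsn : ∀ {n : ℕ}, d 1 ^ n = 1 → s ^ n = 1 := fun {n} e => hs' fun i => by
    fin_cases i
    · show d 0 ^ n = 1
      rw [h00, inv_pow, ← pow_mul, mul_comm, pow_mul, e, one_pow, inv_one]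
    · exact e
    · simpa [← h12] using e
  by_cases hp : p = 2
  · by_cases h01 : d 0 = d 1
    · refine Or.inr (Or.inr ⟨hp, hsn ?_, back (htwo hp)⟩)
      rw [h00] at h01
      have := (inv_eq_iff_eq_inv.1 h01)
      rw [pow_succ, this, inv_mul_cancel₀ (hd0 1)]
    · exact Or.inl ⟨n, hn, hsn e, back (hblock h01 (by rwa [← h12]))⟩
  · exact Or.inl ⟨n, hn, hsn e, back (hodd hp)⟩

/-- Unipotent automorphisms. -/
theorem unipotent_bound {p k : ℕ} [Fact p.Prime] [CharP K p] (g : G2 K) (hg : g ^ p ^ k = 1) :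
    (p = 2 → g ^ 8 = 1) ∧ (p ≠ 2 → g ^ p ^ 2 = 1) ∧ (7 ≤ p → g ^ p = 1) := by
  haveI : CharP (Matrix (Fin 8) (Fin 8) K) p := charP_of_injective_algebraMap (algebraMap K _).injective p
  have hp2 := (Fact.out : p.Prime).two_le
  obtain ⟨M, hM⟩ : ∃ M, M = ((g : GL (Fin 8) K) : Matrix (Fin 8) (Fin 8) K) := ⟨_, rfl⟩
  have hMk : M ^ p ^ k = 1 := by
    rw [hM, ← Units.val_pow_eq_pow_val, ← SubgroupClass.coe_pow, hg]; rfl
  have hnil : IsNilpotent (M - 1) := ⟨p ^ k, by
    rw [sub_pow_char_pow_of_commute p k (Commute.one_right M), one_pow, hMk, sub_self]⟩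
  have h8 := pow_card_of_nilpotent hnil
  have fin : ∀ j, (M - 1) ^ p ^ j = 0 → g ^ p ^ j = 1 := fun j e => by
    rw [sub_pow_char_pow_of_commute p j (Commute.one_right M), one_pow, sub_eq_zero] at e
    refine Subtype.ext (Units.ext ?_)
    rw [SubgroupClass.coe_pow, Units.val_pow_eq_pow_val, ← hM, e]; rfl
  refine ⟨fun e => ?_, fun hne => fin 2 (pow_eq_zero_of_le ?_ h8), fun h7 => ?_⟩
  · subst e; exact fin 3 (by simpa using h8)
  · calc 8 ≤ 3 ^ 2 := by norm_num
      _ ≤ p ^ 2 := Nat.pow_le_pow_left (by omega) 2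
  -- the trace zero part has dimension seven
  obtain ⟨S, hS⟩ : ∃ S : Submodule K (Fin 8 → K), ∀ x, x ∈ S ↔ tr x = 0 :=
    ⟨LinearMap.ker ({ toFun := tr, map_add' := tr_add, map_smul' := tr_smul } : (Fin 8 → K) →ₗ[K] K),
      fun x => LinearMap.mem_ker⟩
  obtain ⟨f, hf⟩ : ∃ f : Module.End K (Fin 8 → K), f = Matrix.toLinAlgEquiv' (M - 1) := ⟨_, rfl⟩
  have hfx : ∀ x, f x = act g x - x := fun x => by
    rw [hf, act_eq_mulVec, ← hM]
    show (M - 1) *ᵥ x = _
    rw [Matrix.sub_mulVec, Matrix.one_mulVec]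
  have hfS : ∀ x, f x ∈ S := fun x => by rw [hS, hfx, tr_sub, tr_act, sub_self]
  have h2 : (2 : K) ≠ 0 := by
    intro e
    have := (CharP.cast_eq_zero_iff K p 2).1 (by exact_mod_cast e)
    have := Nat.le_of_dvd (by norm_num) this
    omega
  have hdim : Module.finrank K S ≤ 7 := by
    have : Module.finrank K S < Module.finrank K (Fin 8 → K) := Submodule.finrank_lt fun e => by
      have := (hS (oneO K)).1 (e ▸ Submodule.mem_top)
      exact h2 (tr_oneO (F := K) ▸ this)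
    rw [Module.finrank_fin_fun] at this; omega
  have hnilS : IsNilpotent (f.restrict (fun x _ => hfS x : ∀ x ∈ S, f x ∈ S)) := by
    obtain ⟨j, hj⟩ := hnil
    refine ⟨j, ?_⟩
    rw [Module.End.pow_restrict j]
    refine LinearMap.ext fun x => Subtype.ext ?_
    show (f ^ j) (x : Fin 8 → K) = 0
    rw [hf, ← map_pow, hj, map_zero]; rfl
  have h7' : ∀ x ∈ S, (f ^ 7) x = 0 := fun x hx => by
    have e : (f.restrict (fun x _ => hfS x : ∀ x ∈ S, f x ∈ S)) ^ 7 = 0 :=
      pow_eq_zero_of_le hdim (by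
        have hc := IsNilpotent.charpoly_eq_X_pow_finrank hnilS
        have := LinearMap.aeval_self_charpoly (f.restrict (fun x _ => hfS x : ∀ x ∈ S, f x ∈ S))
        rwa [hc, map_pow, Polynomial.aeval_X] at this)
    rw [Module.End.pow_restrict 7] at e
    exact congrArg Subtype.val (LinearMap.congr_fun e ⟨x, hx⟩)
  have hall : f ^ 7 = 0 := LinearMap.ext fun x => by
    have hx : x = (2⁻¹ * tr x) • oneO K + (x - (2⁻¹ * tr x) • oneO K) := by abel
    conv_lhs => rw [hx]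
    rw [map_add, map_smul, h7' (x - (2⁻¹ * tr x) • oneO K) ((hS _).2 (by rw [tr_sub, tr_smul, tr_oneO]; field_simp; ring)), add_zero]
    have h0 : f (oneO K) = 0 := by rw [hfx, act_oneO, sub_self]
    rw [pow_succ, Module.End.mul_apply, h0, map_zero, smul_zero]; rfl
  have h77 : (M - 1) ^ 7 = 0 := by
    apply Matrix.toLinAlgEquiv'.injective
    rw [map_pow, ← hf, hall, map_zero]
  simpa using fin 1 (pow_eq_zero_of_le (by rw [pow_one]; exact h7) h77)

/-- The possible exponents of an element of `G₂(q)`. -/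
theorem order_cases {F : Type*} [Field F] [Fintype F] {p q : ℕ} [Fact p.Prime] [CharP F p]
    (hq : Fintype.card F = q) (g : G2 F) :
    (∃ n, (n = q - 1 ∨ n = q + 1) ∧ orderOf g ∣ p * n) ∨
    (∃ n, (n = q ^ 2 - 1 ∨ n = q ^ 2 + q + 1 ∨ n = q ^ 2 - q + 1) ∧ orderOf g ∣ n) ∨
    (p = 2 ∧ (orderOf g ∣ 12 ∨ orderOf g ∣ 8)) ∨ (p ≠ 2 ∧ orderOf g ∣ p ^ 2 ∧ (7 ≤ p → orderOf g ∣ p)) := by
  obtain ⟨a, hp, hqa⟩ := FiniteField.card F p
  rw [hq] at hqa
  let K := AlgebraicClosure F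
  haveI : CharP K p := charP_of_injective_algebraMap (algebraMap F K).injective p
  obtain ⟨σ, hσ⟩ : ∃ σ : K →+* K, σ = iterateFrobenius K p a := ⟨_, rfl⟩
  have hσq : ∀ x, σ x = x ^ q := fun x => by rw [hσ, iterateFrobenius_def, hqa]
  have hq1 : 1 ≤ q := hq ▸ Fintype.card_pos
  obtain ⟨G, hG⟩ : ∃ G, G = mapG2 (algebraMap F K) g := ⟨_, rfl⟩
  have hord : orderOf G = orderOf g := hG ▸ orderOf_injective _ (mapG2_injective _) g
  have hfin : IsOfFinOrder G := by
    rw [hG]; exact MonoidHom.isOfFinOrder _ (isOfFinOrder_of_finite g)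
  have hGσ : ∀ (i : ℕ) v, act (G ^ i) (σ ∘ v) = σ ∘ act (G ^ i) v := fun i v => by
    rw [hG, ← map_pow]
    exact act_mapG2_comp _ σ (fun c => by rw [hσq, ← map_pow, ← hq, FiniteField.pow_card]) _ v
  obtain ⟨k, m, hm, hkm⟩ := Nat.exists_eq_pow_mul_and_not_dvd hfin.orderOf_pos.ne' p hp.ne_one
  have hmK : (m : K) ≠ 0 := fun e => hm ((CharP.cast_eq_zero_iff K p m).1 e)
  have hcop : Nat.Coprime (p ^ k) m := (hp.coprime_iff_not_dvd.2 hm).pow_left k
  -- a power killing both parts kills the element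
  have comb : ∀ e f : ℕ, (G ^ p ^ k) ^ e = 1 → (G ^ m) ^ f = 1 → orderOf g ∣ f * e := fun e f he hf => by
    rw [← hord]
    refine orderOf_dvd_of_pow_eq_one ?_
    have a1 : (G ^ (f * e)) ^ p ^ k = 1 := by
      rw [← pow_mul, show f * e * p ^ k = p ^ k * e * f by ring, pow_mul, pow_mul, he, one_pow]
    have a2 : (G ^ (f * e)) ^ m = 1 := by
      rw [← pow_mul, show f * e * m = m * f * e by ring, pow_mul, pow_mul, hf, one_pow]
    have := pow_gcd_eq_one.2 ⟨a1, a2⟩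
    rwa [hcop, pow_one] at this
  have hum : (G ^ m) ^ p ^ k = 1 := by rw [← pow_mul, mul_comm, ← hkm, pow_orderOf_eq_one]
  by_cases hs : G ^ p ^ k = 1
  · obtain ⟨b2, bodd, b7⟩ := unipotent_bound G hs
    refine Or.inr (Or.inr ?_)
    by_cases hp2 : p = 2
    · exact Or.inl ⟨hp2, Or.inr (hord ▸ orderOf_dvd_of_pow_eq_one (b2 hp2))⟩
    · exact Or.inr ⟨hp2, hord ▸ orderOf_dvd_of_pow_eq_one (bodd hp2),
        fun h7 => hord ▸ orderOf_dvd_of_pow_eq_one (b7 h7)⟩
  rcases cases_of_semisimple hq1 (G ^ p ^ k) (G ^ m) σ hσq (hGσ _) hmK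
    (by rw [← pow_mul, ← hkm, pow_orderOf_eq_one]) hs (Commute.pow_pow (Commute.refl G) _ _) hum with
    ⟨n, hn, e, f⟩ | ⟨n, hn, e, f⟩ | ⟨hp2, e, f⟩
  · exact Or.inl ⟨n, hn, comb n p e f⟩
  · exact Or.inr (Or.inl ⟨n, hn, by simpa using comb n 1 e (by rwa [pow_one])⟩)
  · exact Or.inr (Or.inr (Or.inl ⟨hp2, Or.inl (by simpa using comb 3 4 e f)⟩))

end CfsgLib.Known.G2Oct
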