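import Cfsg.Agent.Lib.Known.G2Oct.Sparse
import Cfsg.Agent.Lib.Lie.Chev.All
import Cfsg.Prelude.Def_G2

/-!
# The root automorphisms of Zorn's algebra and their derivations

Tables: the images of the Chevalley basis of `G₂` among the derivations of Zorn's algebra, half of
their squares, and the left multiplications of the algebra; the identities between them are checked
as identities of sparse polynomial matrices.
-/

set_option autoImplicit false

namespace CfsgLib.Known.G2Oct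

open Cfsg.Lie (chevG2)
open CfsgLib.Lie.Chev

/-- The derivations attached to the Chevalley basis. -/
def phiL : List (List Ent) := [
  [(0, 1, 1, -1), (0, 2, 2, 2), (0, 3, 3, -1), (0, 4, 4, 1), (0, 5, 5, -2), (0, 6, 6, 1)],
  [(0, 1, 1, 1), (0, 2, 2, -1), (0, 4, 4, -1), (0, 5, 5, 1)],
  [(0, 3, 1, 1), (0, 4, 6, -1)],
  [(0, 3, 2, 1), (0, 5, 6, -1)],
  [(0, 0, 6, 1), (0, 3, 0, -1), (0, 3, 7, 1), (0, 4, 2, 1), (0, 5, 1, -1), (0, 7, 6, -1)],
  [(0, 0, 1, -1), (0, 2, 6, -1), (0, 3, 5, 1), (0, 4, 0, 1), (0, 4, 7, -1), (0, 7, 1, 1)],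
  [(0, 0, 2, -1), (0, 1, 6, 1), (0, 3, 4, -1), (0, 5, 0, 1), (0, 5, 7, -1), (0, 7, 2, 1)],
  [(0, 2, 1, 1), (0, 4, 5, -1)],
  [(0, 1, 2, 1), (0, 5, 4, -1)],
  [(0, 0, 5, 1), (0, 2, 0, -1), (0, 2, 7, 1), (0, 4, 3, -1), (0, 6, 1, 1), (0, 7, 5, -1)],
  [(0, 0, 4, 1), (0, 1, 0, -1), (0, 1, 7, 1), (0, 5, 3, 1), (0, 6, 2, -1), (0, 7, 4, -1)],
  [(0, 0, 3, -1), (0, 1, 5, -1), (0, 2, 4, 1), (0, 6, 0, 1), (0, 6, 7, -1), (0, 7, 3, 1)],
  [(0, 2, 3, 1), (0, 6, 5, -1)],
  [(0, 1, 3, 1), (0, 6, 4, -1)]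
]

/-- Half of the squares of the root derivations. -/
def quadL : List (List Ent) := [
  [],
  [],
  [(2, 3, 6, -1)],
  [(2, 4, 1, -1)],
  [(2, 5, 2, -1)],
  [],
  [],
  [(2, 2, 5, -1)],
  [(2, 1, 4, -1)],
  [(2, 6, 3, -1)],
  [],
  []
]

/-- The left multiplications by the basis vectors. -/
def leftL : List (List Ent) := [
  [(0, 0, 0, 1), (0, 1, 1, 1), (0, 2, 2, 1), (0, 3, 3, 1)],
  [(0, 0, 4, 1), (0, 1, 7, 1), (0, 5, 3, -1), (0, 6, 2, 1)],
  [(0, 0, 5, 1), (0, 2, 7, 1), (0, 4, 3, 1), (0, 6, 1, -1)],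
  [(0, 0, 6, 1), (0, 3, 7, 1), (0, 4, 2, -1), (0, 5, 1, 1)],
  [(0, 2, 6, 1), (0, 3, 5, -1), (0, 4, 0, 1), (0, 7, 1, 1)],
  [(0, 1, 6, -1), (0, 3, 4, 1), (0, 5, 0, 1), (0, 7, 2, 1)],
  [(0, 1, 5, 1), (0, 2, 4, -1), (0, 6, 0, 1), (0, 7, 3, 1)],
  [(0, 4, 4, 1), (0, 5, 5, 1), (0, 6, 6, 1), (0, 7, 7, 1)]
]

/-- The derivation of a basis vector. -/
def phiE (k : ℕ) : List Ent := phiL.getD k []

/-- The left multiplication by a basis vector. -/
def leftE (a : ℕ) : List Ent := leftL.getD a []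

/-- The root automorphism as a list. -/
def rootE (r : ℕ) : List Ent := idL 8 ++ pscale 1 1 (phiE (2 + r)) ++ quadL.getD r []

/-- The root element of the adjoint group as a list. -/
def chevE (r : ℕ) : List Ent := idL 14 ++ entries chevG2 r

/-- The inverse of the root automorphism. -/
def invChk (r : ℕ) : Bool := colsLt 8 (rootE r) && eqChk (pmul (rootE r) (negT (rootE r))) (idL 8)

theorem mult_ok : ((List.range 12).all fun r => famChk 8 8 (rootE r) (rootE r) leftE) = true := by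
  decide +kernel

theorem conj_ok : ((List.range 12).all fun r => famChk 8 14 (rootE r) (chevE r) phiE) = true := by
  decide +kernel

theorem inv_ok : ((List.range 12).all invChk) = true := by decide +kernel

theorem const_ok : ((List.range 14).all fun k => (phiE k).all fun e => e.1 == 0) = true := by decide +kernel

theorem left_const : ((List.range 8).all fun k => (leftE k).all fun e => e.1 == 0) = true := by decide +kernel

/-- Products of two derivations that are matrix units. -/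
def unitTbl : List (ℕ × ℕ × ℕ × ℕ) :=
  [(3, 2, 2, 8), (4, 5, 2, 12), (3, 1, 3, 7), (5, 4, 3, 13), (4, 6, 7, 3), (2, 3, 7, 13), (5, 6, 8, 2),
    (1, 3, 8, 12), (2, 1, 12, 2), (6, 4, 12, 8), (1, 2, 13, 3), (6, 5, 13, 7)]

theorem unit_ok : (unitTbl.all fun q => colsLt 8 (phiE q.2.2.1) &&
    eqChk (pmul (phiE q.2.2.1) (phiE q.2.2.2)) [(0, q.1, q.2.1, 1)]) = true := by
  decide +kernel

end CfsgLib.Known.G2Oct
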