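import Cfsg.Agent.Lib.Known.G2Oct.Data
import Cfsg.Agent.Lib.Classical.SylowAb.G2Order
import Cfsg.Agent.Lib.Lie.Rel.Order
import Cfsg.Agent.Lib.Classical.LinearOrder

/-!
# The Chevalley group of type `G₂` is the automorphism group of Zorn's algebra

Both groups act on the derivations of Zorn's algebra; the root automorphisms match the root
elements of the adjoint group, and the orders agree.
-/

set_option autoImplicit false

namespace CfsgLib.Known.G2Oct

open Cfsg.Lie (chevG2 G2 zornMul zA zB dot3 cross3)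
open CfsgLib.Lie.Chev
open CfsgLib.Classical.SylowAb.Octonion
open scoped Matrix

variable {F : Type*} [Field F]

theorem code_bound : chevG2.rank + chevG2.nroots = 14 := by decide +kernel

/-- The number of a coordinate. -/
noncomputable def cidx : chevG2.Idx ≃ Fin 14 :=
  Equiv.ofBijective (fun a => ⟨code chevG2 a, code_bound ▸ code_lt chevG2 a⟩)
    ⟨fun a b h => code_injective chevG2 (congrArg Fin.val h), fun k => by
      obtain ⟨a, ha⟩ := exists_code chevG2 (code_bound.symm ▸ k.2 : (k : ℕ) < chevG2.rank + chevG2.nroots)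
      exact ⟨a, Fin.ext ha⟩⟩

theorem cidx_val (a : chevG2.Idx) : ((cidx a : Fin 14) : ℕ) = code chevG2 a := rfl

/-- The derivation with the given coordinates. -/
noncomputable def der (c : chevG2.Idx → F) : Matrix (Fin 8) (Fin 8) F :=
  ∑ k : Fin 14, c (cidx.symm k) • ev 8 (phiE k) (1 : F)

theorem der_apply (c : chevG2.Idx → F) (i j : Fin 8) :
    der c i j = ∑ k : Fin 14, c (cidx.symm k) * ev 8 (phiE k) (1 : F) i j := by
  simp [der, Matrix.sum_apply]

theorem eq_zero_of_der {c : chevG2.Idx → F} (h : der c = 0) : c = 0 := by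
  have e : ∀ i j : Fin 8, ∑ k : Fin 14, c (cidx.symm k) * ev 8 (phiE k) (1 : F) i j = 0 := fun i j => by
    rw [← der_apply, h]; rfl
  have h13 := e 1 3; have h12 := e 2 3; have h8 := e 1 2; have h7 := e 2 1; have h2 := e 3 1; have h3 := e 3 2
  have h10 := e 1 7; have h9 := e 2 7; have h4 := e 3 7; have h5 := e 4 0; have h6 := e 5 0; have h11 := e 6 0
  have h0 := e 3 3; have h1 := e 1 1
  simp [Fin.sum_univ_succ, ev_apply, Ent.hit, phiE, phiL] at h13 h12 h8 h7 h2 h3 h10 h9 h4 h5 h6 h11 h0 h1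
  have hk : ∀ k : Fin 14, c (cidx.symm k) = 0 := fun k => by
    fin_cases k <;> first | assumption | (simp_all)
  funext a
  simpa using hk (cidx a)

/-- The left multiplication. -/
def lmul (x : Fin 8 → F) : Matrix (Fin 8) (Fin 8) F := ∑ a : Fin 8, x a • ev 8 (leftE a) (1 : F)

theorem zornMul_eq_lmul (x y : Fin 8 → F) : zornMul x y = lmul x *ᵥ y := by
  funext k
  fin_cases k <;>
    simp [zornMul, zA, zB, dot3, cross3, lmul, Matrix.mulVec, dotProduct, Matrix.sum_apply,
      Fin.sum_univ_eight, ev_apply, Ent.hit, leftE, leftL] <;> ring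

/-- The root automorphism matrix. -/
def rootM (r : ℕ) (t : F) : Matrix (Fin 8) (Fin 8) F := ev 8 (rootE r) t

theorem rootM_mul_neg {r : ℕ} (hr : r < 12) (t : F) : rootM r t * rootM r (-t) = 1 := by
  have h := List.all_eq_true.1 inv_ok r (List.mem_range.2 hr)
  simp only [invChk, Bool.and_eq_true] at h
  rw [rootM, rootM, ← ev_negT, ← ev_pmul 8 _ _ h.1, ev_eq 8 h.2, ev_idL]

/-- The root automorphism in the linear group. -/
def rootU {r : ℕ} (hr : r < 12) (t : F) : GL (Fin 8) F :=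
  ⟨rootM r t, rootM r (-t), rootM_mul_neg hr t, by simpa using rootM_mul_neg hr (-t)⟩

theorem rootM_lmul {r : ℕ} (hr : r < 12) (t : F) (x : Fin 8 → F) :
    rootM r t * lmul x = lmul (rootM r t *ᵥ x) * rootM r t := by
  have h := List.all_eq_true.1 mult_ok r (List.mem_range.2 hr)
  have hc : ∀ a : Fin 8, ev 8 (leftE a) (1 : F) = ev 8 (leftE a) t := fun a =>
    (ev_const 8 _ (List.all_eq_true.1 left_const a (List.mem_range.2 a.2)) t).symm
  simp only [lmul, hc, Finset.mul_sum, Finset.sum_mul, mul_smul_comm, rootM, ev_fam h]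
  simp only [smul_smul, Finset.smul_sum, smul_mul_assoc]
  rw [Finset.sum_comm]
  refine Finset.sum_congr rfl fun i _ => ?_
  rw [← Finset.sum_smul, Matrix.mulVec, dotProduct]
  simp only [mul_comm]

theorem rootU_mem {r : ℕ} (hr : r < 12) (t : F) : rootU hr t ∈ G2 F := fun x y => by
  show rootM r t *ᵥ zornMul x y = zornMul (rootM r t *ᵥ x) (rootM r t *ᵥ y)
  rw [zornMul_eq_lmul, zornMul_eq_lmul, Matrix.mulVec_mulVec, rootM_lmul hr, Matrix.mulVec_mulVec]

/-- The chev roots are well formed. -/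
def okRoot (r : ℕ) : Bool :=
  Nat.blt r chevG2.nroots && !Nat.beq (chevG2.neg r) r &&
    (row chevG2 r).all (fun e => !Nat.beq e.1 r && !Nat.beq e.1 (chevG2.neg r))

theorem roots_ok : ((List.range 12).all okRoot) = true := by decide +kernel

theorem x_eq_ev {r : ℕ} (hr : r < 12) (t : F) (a b : chevG2.Idx) :
    chevG2.x F r t a b = ev 14 (chevE r) t (cidx a) (cidx b) := by
  have h := List.all_eq_true.1 roots_ok r (List.mem_range.2 hr)
  simp only [okRoot, Bool.and_eq_true, List.all_eq_true, nat_blt_iff, Bool.not_eq_true', ← Bool.not_eq_true,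
    nat_beq_iff] at h
  obtain ⟨⟨h1, h2⟩, h3⟩ := h
  rw [xMat_eq chevG2 h1 h2 fun e he => h3 e he, chevE, ev_append, Matrix.add_apply, Matrix.add_apply, ev_idL]
  congr 1
  · by_cases e : a = b
    · subst e; simp
    · rw [Matrix.one_apply_ne e, Matrix.one_apply_ne fun h => e (cidx.injective h)]
  · rw [ev_apply]; rfl

theorem rootM_der {r : ℕ} (hr : r < 12) (t : F) (c : chevG2.Idx → F) :
    rootM r t * der c = der (chevG2.x F r t *ᵥ c) * rootM r t := by
  have h := List.all_eq_true.1 conj_ok r (List.mem_range.2 hr)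
  have hc : ∀ k : Fin 14, ev 8 (phiE k) (1 : F) = ev 8 (phiE k) t := fun k =>
    (ev_const 8 _ (List.all_eq_true.1 const_ok k (List.mem_range.2 k.2)) t).symm
  simp only [der, hc, Finset.mul_sum, Finset.sum_mul, mul_smul_comm, rootM, ev_fam h]
  simp only [smul_smul, Finset.smul_sum, smul_mul_assoc]
  rw [Finset.sum_comm]
  refine Finset.sum_congr rfl fun i _ => ?_
  rw [← Finset.sum_smul, Matrix.mulVec, dotProduct, ← cidx.sum_comp]
  simp only [x_eq_ev hr, Equiv.symm_apply_apply, Equiv.apply_symm_apply, mul_comm]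

/-- Pairs inducing the same map on the derivations. -/
noncomputable def link (F : Type*) [Field F] : Subgroup (↥(G2 F) × GL chevG2.Idx F) where
  carrier := {p | ∀ c : chevG2.Idx → F, ((p.1 : GL (Fin 8) F) : Matrix (Fin 8) (Fin 8) F) * der c =
    der ((p.2 : Matrix chevG2.Idx chevG2.Idx F) *ᵥ c) * ((p.1 : GL (Fin 8) F) : Matrix (Fin 8) (Fin 8) F)}
  one_mem' c := by simp
  mul_mem' {p q} hp hq c := by
    simp only [Prod.fst_mul, Prod.snd_mul, Subgroup.coe_mul, Units.val_mul]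
    rw [mul_assoc, hq, ← mul_assoc, hp, mul_assoc, Matrix.mulVec_mulVec]
  inv_mem' {p} hp c := by
    have h := hp (((p.2⁻¹ : GL chevG2.Idx F) : Matrix chevG2.Idx chevG2.Idx F) *ᵥ c)
    rw [Matrix.mulVec_mulVec, Units.mul_inv, Matrix.one_mulVec] at h
    simp only [Prod.fst_inv, Prod.snd_inv, Subgroup.coe_inv]
    calc _ = ((p.1 : GL (Fin 8) F)⁻¹ : GL (Fin 8) F).val * (der c *
          ((p.1 : GL (Fin 8) F) : Matrix (Fin 8) (Fin 8) F)) * ((p.1 : GL (Fin 8) F)⁻¹ : GL (Fin 8) F).val := by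
            rw [mul_assoc, mul_assoc (der c), Units.mul_inv, mul_one]
      _ = _ := by rw [← h, ← mul_assoc, Units.inv_mul, one_mul]

/-- The pairs of root elements. -/
noncomputable def rootPairs (F : Type*) [Field F] : Subgroup (↥(G2 F) × GL chevG2.Idx F) :=
  Subgroup.closure {p | ∃ (r : Fin 12) (t : F), p.1 = ⟨rootU r.2 t, rootU_mem r.2 t⟩ ∧
    (p.2 : Matrix chevG2.Idx chevG2.Idx F) = chevG2.x F r t}

theorem rootPairs_le : rootPairs F ≤ link F := by
  refine (Subgroup.closure_le _).2 ?_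
  rintro ⟨g, A⟩ ⟨r, t, hg, hA⟩ c
  simp only at hg hA
  rw [hg, hA]
  exact rootM_der r.2 t c

theorem map_snd : (rootPairs F).map (MonoidHom.snd _ _) = chevG2.group F := by
  rw [rootPairs, MonoidHom.map_closure, Cfsg.Lie.ChevalleyDatum.group]
  congr 1
  ext A
  have hn : chevG2.nroots = 12 := by decide +kernel
  constructor
  · rintro ⟨⟨g, A⟩, ⟨r, t, -, hA⟩, rfl⟩
    have hr : (r : ℕ) < chevG2.nroots := by omega
    refine ⟨⟨r, hr⟩, t, ?_⟩
    simp only [MonoidHom.coe_snd] at hA ⊢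
    rw [hA, Cfsg.Lie.ChevalleyDatum.x, dif_pos hr]
  · rintro ⟨r, t, hA⟩
    have hr : (r : ℕ) < 12 := by omega
    refine ⟨(⟨rootU hr t, rootU_mem _ t⟩, A), ⟨⟨r, hr⟩, t, rfl, ?_⟩, rfl⟩
    show (A : Matrix chevG2.Idx chevG2.Idx F) = chevG2.x F (r : ℕ) t
    rw [hA, Cfsg.Lie.ChevalleyDatum.x, dif_pos r.2]

theorem eq_one_of_snd {A : GL chevG2.Idx F} (h : ((1 : ↥(G2 F)), A) ∈ link F) : A = 1 := by
  refine Units.ext (Matrix.ext_of_mulVec_single fun a => ?_)
  have h1 := h (Pi.single a 1)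
  simp only [Subgroup.coe_one, Units.val_one, one_mul, mul_one] at h1
  rw [Units.val_one, Matrix.one_mulVec]
  refine sub_eq_zero.1 (eq_zero_of_der ?_)
  have : der ((A : Matrix chevG2.Idx chevG2.Idx F) *ᵥ Pi.single a (1 : F) - Pi.single a 1) =
      der ((A : Matrix chevG2.Idx chevG2.Idx F) *ᵥ Pi.single a (1 : F)) - der (Pi.single a 1) := by
    simp [der, sub_smul, Finset.sum_sub_distrib]
  rw [this, ← h1, sub_self]

theorem eq_one_of_fst {g : ↥(G2 F)} (h : (g, (1 : GL chevG2.Idx F)) ∈ link F) : g = 1 := by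
  obtain ⟨G, hG⟩ : ∃ G, G = ((g : GL (Fin 8) F) : Matrix (Fin 8) (Fin 8) F) := ⟨_, rfl⟩
  have hc : ∀ k : Fin 14, G * ev 8 (phiE k) (1 : F) = ev 8 (phiE k) (1 : F) * G := fun k => by
    have h1 := h (Pi.single (cidx.symm k) 1)
    simp only [Units.val_one, Matrix.one_mulVec, ← hG] at h1
    have e : der (Pi.single (cidx.symm k) (1 : F)) = ev 8 (phiE k) (1 : F) := by
      rw [der, Finset.sum_eq_single k]
      · simp
      · intro m _ hm; simp [cidx.symm.injective.ne hm]
      · simp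
    rwa [e] at h1
  have hu : ∀ q ∈ unitTbl, G * ev 8 [((0, q.1, q.2.1, 1) : Ent)] (1 : F) =
      ev 8 [((0, q.1, q.2.1, 1) : Ent)] (1 : F) * G := fun q hq => by
    have hk : ∀ q ∈ unitTbl, q.2.2.1 < 14 ∧ q.2.2.2 < 14 := by decide
    have h1 := List.all_eq_true.1 unit_ok q hq
    simp only [Bool.and_eq_true] at h1
    rw [← ev_eq 8 h1.2, ev_pmul 8 _ _ h1.1, ← mul_assoc, hc ⟨_, (hk q hq).1⟩, mul_assoc,
      hc ⟨_, (hk q hq).2⟩, mul_assoc]
  have hdiag : ∀ q ∈ unitTbl, ∀ i j : Fin 8, (i : ℕ) = q.1 → (j : ℕ) = q.2.1 →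
      (∀ k, k ≠ i → G k i = 0) ∧ (∀ k, k ≠ j → G j k = 0) ∧ G i i = G j j := fun q hq i j hi hj => by
    have e : ev 8 [((0, q.1, q.2.1, 1) : Ent)] (1 : F) = Matrix.single i j 1 := by
      ext a b
      simp [ev_apply, Ent.hit, Matrix.single, ← hi, ← hj, Fin.val_inj]
    have := hu q hq
    rw [e] at this
    refine ⟨fun k hk => ?_, fun k hk => ?_, ?_⟩
    · have := congrFun (congrFun this k) j
      simpa [hk] using this
    · have := congrFun (congrFun this i) k
      simpa [hk] using this.symm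
    · simpa using congrFun (congrFun this i) j
  obtain ⟨c3, r3, e13⟩ := hdiag (1, 3, 8, 12) (by decide) 1 3 rfl rfl
  obtain ⟨c3', r1, -⟩ := hdiag (3, 1, 3, 7) (by decide) 3 1 rfl rfl
  obtain ⟨c2, r3', e23⟩ := hdiag (2, 3, 7, 13) (by decide) 2 3 rfl rfl
  obtain ⟨-, r2, -⟩ := hdiag (3, 2, 2, 8) (by decide) 3 2 rfl rfl
  obtain ⟨c4, r6, e46⟩ := hdiag (4, 6, 7, 3) (by decide) 4 6 rfl rfl
  obtain ⟨c6, r4, -⟩ := hdiag (6, 4, 12, 8) (by decide) 6 4 rfl rfl
  obtain ⟨c5, r6', e56⟩ := hdiag (5, 6, 8, 2) (by decide) 5 6 rfl rfl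
  obtain ⟨-, r5, -⟩ := hdiag (6, 5, 13, 7) (by decide) 6 5 rfl rfl
  -- the two blocks have the same scalar
  have hblk : G 6 6 = G 2 2 := by
    have := congrFun (congrFun (hc 10) 6) 2
    simpa [Matrix.mul_apply, Fin.sum_univ_eight, ev_apply, Ent.hit, phiE, phiL, c2 6 (by decide),
      c2 0 (by decide), c2 7 (by decide), r6 0 (by decide), r6 7 (by decide)] using this
  have hmul : ∀ x y : Fin 8 → F, G *ᵥ zornMul x y = zornMul (G *ᵥ x) (G *ᵥ y) := by
    rw [hG]; exact g.2
  have hcol : ∀ i : Fin 8, (∀ k, k ≠ i → G k i = 0) → G *ᵥ Pi.single i 1 = Pi.single i (G i i) := fun i hi => by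
    funext k
    rw [Matrix.mulVec_single_one, Matrix.col_apply]
    by_cases hk : k = i
    · subst hk; simp
    · rw [hi k hk, Pi.single_eq_of_ne hk]
  have h11 : G 1 1 = 1 := by
    have h12 := hmul (Pi.single 1 1) (Pi.single 2 1)
    have e : zornMul (Pi.single 1 (1 : F)) (Pi.single 2 1) = Pi.single 6 1 := by
      funext k; fin_cases k <;> simp [zornMul, zA, zB, dot3, cross3]
    rw [e, hcol 6 c6, hcol 1 c3, hcol 2 c2] at h12
    have h := congrFun h12 6
    simp [zornMul, zA, zB, dot3, cross3] at h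
    have hne : G 2 2 ≠ 0 := fun h0 => by
      have hu : G.det ≠ 0 := hG ▸ ((Matrix.isUnit_iff_isUnit_det _).1 (Units.isUnit _)).ne_zero
      exact hu (Matrix.det_eq_zero_of_column_eq_zero 2 fun k => if hk : k = 2 then hk ▸ h0 else c2 k hk)
    rw [hblk] at h
    exact mul_right_cancel₀ hne (by linear_combination -h)
  have h0 : G *ᵥ Pi.single 0 1 = Pi.single 0 1 := by
    have h14 := hmul (Pi.single 1 1) (Pi.single 4 1)
    have e : zornMul (Pi.single 1 (1 : F)) (Pi.single 4 1) = Pi.single 0 1 := by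
      funext k; fin_cases k <;> simp [zornMul, zA, zB, dot3, cross3]
    rw [e, hcol 4 c4, hcol 1 c3] at h14
    rw [h14]
    funext k
    fin_cases k <;> simp [zornMul, zA, zB, dot3, cross3, e46, hblk, e23, ← e13, h11]
  have h7 : G *ᵥ Pi.single 7 1 = Pi.single 7 1 := by
    have h41 := hmul (Pi.single 4 1) (Pi.single 1 1)
    have e : zornMul (Pi.single 4 (1 : F)) (Pi.single 1 1) = Pi.single 7 1 := by
      funext k; fin_cases k <;> simp [zornMul, zA, zB, dot3, cross3]
    rw [e, hcol 4 c4, hcol 1 c3] at h41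
    rw [h41]
    funext k
    fin_cases k <;> simp [zornMul, zA, zB, dot3, cross3, e46, hblk, e23, ← e13, h11]
  refine Subtype.ext (Units.ext (Matrix.ext_of_mulVec_single fun i => ?_))
  rw [← hG, Subgroup.coe_one, Units.val_one, Matrix.one_mulVec]
  have d2 : G 2 2 = 1 := by rw [e23, ← e13, h11]
  have d3 : G 3 3 = 1 := by rw [← e13, h11]
  have d6 : G 6 6 = 1 := hblk.trans d2
  have d4 : G 4 4 = 1 := e46.trans d6
  have d5 : G 5 5 = 1 := e56.trans d6
  fin_cases i
  · exact h0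
  · exact (hcol 1 c3).trans (by rw [h11]; rfl)
  · exact (hcol 2 c2).trans (by rw [d2]; rfl)
  · exact (hcol 3 c3').trans (by rw [d3]; rfl)
  · exact (hcol 4 c4).trans (by rw [d4]; rfl)
  · exact (hcol 5 c5).trans (by rw [d5]; rfl)
  · exact (hcol 6 c6).trans (by rw [d6]; rfl)
  · exact h7

/-- The Chevalley group of type `G₂` is the automorphism group of Zorn's algebra. -/
theorem nonempty_mulEquiv [Fintype F] : Nonempty (↥(chevG2.group F) ≃* ↥(G2 F)) := by
  classical
  obtain ⟨f, hf⟩ : ∃ f : ↥(rootPairs F) →* ↥(G2 F),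
      f = (MonoidHom.fst _ _).comp (rootPairs F).subtype := ⟨_, rfl⟩
  have hinj : Function.Injective f := by
    rw [injective_iff_map_eq_one]
    rintro ⟨⟨g, A⟩, hp⟩ h1
    rw [hf] at h1
    simp only [MonoidHom.comp_apply, Subgroup.coe_subtype, MonoidHom.coe_fst] at h1
    subst h1
    exact Subtype.ext (Prod.ext rfl (eq_one_of_snd (rootPairs_le hp)))
  obtain ⟨π, hπ⟩ : ∃ π : ↥(rootPairs F) →* ↥((rootPairs F).map (MonoidHom.snd _ _)),
      π = (MonoidHom.snd _ _).subgroupMap (rootPairs F) := ⟨_, rfl⟩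
  have hbij : Function.Bijective π := by
    refine ⟨?_, hπ ▸ MonoidHom.subgroupMap_surjective _ _⟩
    rw [injective_iff_map_eq_one]
    rintro ⟨⟨g, A⟩, hp⟩ h1
    rw [hπ] at h1
    have hA : A = 1 := congrArg Subtype.val h1
    subst hA
    exact Subtype.ext (Prod.ext (eq_one_of_fst (rootPairs_le hp)) rfl)
  have e1 : ↥(rootPairs F) ≃* ↥(chevG2.group F) :=
    (MulEquiv.ofBijective π hbij).trans (MulEquiv.subgroupCongr map_snd)
  have hcard : Nat.card ↥(chevG2.group F) = Nat.card ↥(G2 F) := by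
    obtain ⟨q, hq⟩ : ∃ q, Fintype.card F = q := ⟨_, rfl⟩
    have h := card_group certG2 F cmat_G2 smithG2 polyG2 hq
    have e1 : chevG2.nroots / 2 = 6 := by decide
    rw [e1, Fin.prod_univ_eq_prod_range (fun i => Nat.gcd (q - 1) (([1, 1] : List ℕ).getD i 0))] at h
    simp only [show chevG2.rank = 2 from rfl, Finset.prod_range_succ, Finset.prod_range_zero] at h
    simp [-Nat.card_eq_fintype_card] at h
    have hq1 : 2 ≤ q := hq ▸ Fintype.one_lt_card
    have hsl := CfsgLib.Classical.card_SL (F := F) 3 (by norm_num)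
    rw [card_G2]
    rw [Fin.prod_univ_three, hq] at hsl
    simp only [Fin.val_zero, Fin.val_one, Fin.val_two, pow_zero, pow_one] at hsl
    rw [h, hq]
    refine Nat.eq_of_mul_eq_mul_left (show 0 < q - 1 by omega) ?_
    rw [mul_left_comm (q - 1) (q ^ 6 + q ^ 3), hsl]
    obtain ⟨a, rfl⟩ : ∃ a, q = a + 2 := ⟨q - 2, by omega⟩
    have l2 : 1 ≤ (a + 2) ^ 2 := Nat.one_le_pow _ _ (by omega)
    have l6 : 1 ≤ (a + 2) ^ 6 := Nat.one_le_pow _ _ (by omega)
    have l3 : 1 ≤ (a + 2) ^ 3 := Nat.one_le_pow _ _ (by omega)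
    have u1 : a + 2 ≤ (a + 2) ^ 3 := Nat.le_self_pow (by norm_num) _
    have u2 : (a + 2) ^ 2 ≤ (a + 2) ^ 3 := Nat.pow_le_pow_right (by omega) (by norm_num)
    zify [l2, l6, l3, u1, u2, show 1 ≤ a + 2 by omega]
    ring
  have hb : Function.Bijective (f.comp e1.symm.toMonoidHom) :=
    Nat.bijective_iff_injective_and_card _ |>.2 ⟨hinj.comp e1.symm.injective, hcard⟩
  exact ⟨MulEquiv.ofBijective _ hb⟩

end CfsgLib.Known.G2Oct
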