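import Cfsg.Agent.Lib.Known.G2Oct.Trace
import Cfsg.Agent.Lib.Known.GLOrders
import Cfsg.Agent.Lib.Known.PSLTori
import Cfsg.Agent.Lib.Classical.SylowAb.G2
import Cfsg.Agent.Lib.HallGen.UnitarySpectrum.Three

/-!
# Semisimple and mixed elements of `G₂(q)` of maximal order
-/

set_option autoImplicit false

namespace CfsgLib.Known.G2Oct

open Cfsg.Lie (G2 zornMul zA zB dot3 cross3)
open CfsgLib.Classical.SylowAb.Octonion
open scoped Matrix MatrixGroups

variable {F : Type*} [Field F] [Fintype F]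

theorem det_pow_sub_one {n : ℕ} (z : GL (Fin n) F) :
    Matrix.GeneralLinearGroup.det (z ^ (Fintype.card F - 1)) = 1 := by
  classical
  rw [map_pow, ← Fintype.card_units, pow_card_eq_one]

theorem exists_toGL {n : ℕ} {z : GL (Fin n) F} (h : Matrix.GeneralLinearGroup.det z = 1) :
    ∃ A : Matrix.SpecialLinearGroup (Fin n) F, Matrix.SpecialLinearGroup.toGL A = z := by
  refine ⟨⟨(z : Matrix (Fin n) (Fin n) F), ?_⟩, Units.ext rfl⟩
  have := congrArg (fun u : Fˣ => (u : F)) h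
  simpa using this

theorem exists_singer : ∃ g : ↥(G2 F), orderOf g = Fintype.card F ^ 2 + Fintype.card F + 1 := by
  obtain ⟨q, hq⟩ : ∃ q, Fintype.card F = q := ⟨_, rfl⟩
  have hq2 : 2 ≤ q := hq ▸ Fintype.one_lt_card
  obtain ⟨z, hz⟩ := CfsgLib.Known.GLOrders.exists_orderOf_eq_of_dvd (F := F) (n := 3) (d := 3) (by norm_num) le_rfl
    (dvd_refl (Fintype.card F ^ 3 - 1))
  obtain ⟨A, hA⟩ := exists_toGL (det_pow_sub_one z)
  refine ⟨slHom A, ?_⟩
  rw [orderOf_injective _ slHom_injective, ← orderOf_injective _ Matrix.SpecialLinearGroup.toGL_injective, hA,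
    orderOf_pow' _ (by omega : Fintype.card F - 1 ≠ 0), hz, hq]
  have e : q ^ 3 - 1 = (q - 1) * (q ^ 2 + q + 1) := by
    obtain ⟨r, rfl⟩ : ∃ r, q = r + 1 := ⟨q - 1, by omega⟩
    rw [Nat.add_sub_cancel]
    exact Nat.sub_eq_of_eq_add (by ring)
  rw [e, Nat.gcd_eq_right (Dvd.intro _ rfl), Nat.mul_div_cancel_left _ (by omega : 0 < q - 1)]

theorem exists_quadratic : ∃ g : ↥(G2 F), orderOf g = Fintype.card F ^ 2 - 1 := by
  classical
  obtain ⟨z, hz⟩ := CfsgLib.Known.GLOrders.exists_orderOf_eq_of_dvd (F := F) (n := 2) (d := 2) (by norm_num) le_rfl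
    (dvd_refl (Fintype.card F ^ 2 - 1))
  obtain ⟨f, hf⟩ : ∃ f : GL (Fin 2) F →* Matrix.SpecialLinearGroup (Fin 3) F, ∀ a,
      (f a : Matrix (Fin 3) (Fin 3) F) =
        !![(a : Matrix (Fin 2) (Fin 2) F) 0 0, (a : Matrix (Fin 2) (Fin 2) F) 0 1, 0;
          (a : Matrix (Fin 2) (Fin 2) F) 1 0, (a : Matrix (Fin 2) (Fin 2) F) 1 1, 0;
          0, 0, (((Matrix.GeneralLinearGroup.det a)⁻¹ : Fˣ) : F)] := by
    refine ⟨MonoidHom.mk' (fun a => ⟨_, ?_⟩) (fun a b => Subtype.ext ?_), fun a => rfl⟩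
    · have e : (a : Matrix (Fin 2) (Fin 2) F) 0 0 * (a : Matrix (Fin 2) (Fin 2) F) 1 1 -
          (a : Matrix (Fin 2) (Fin 2) F) 0 1 * (a : Matrix (Fin 2) (Fin 2) F) 1 0 =
          ((Matrix.GeneralLinearGroup.det a : Fˣ) : F) := by
        rw [Matrix.GeneralLinearGroup.val_det_apply, Matrix.det_fin_two]
      rw [Matrix.det_fin_three]
      generalize Matrix.GeneralLinearGroup.det a = v at e ⊢
      simp [-Units.val_inv_eq_inv_val]
      linear_combination ((v⁻¹ : Fˣ) : F) * e + Units.mul_inv v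
    · show _ = _ * _
      dsimp only
      rw [map_mul, mul_inv, Units.val_mul]
      ext i j
      fin_cases i <;> fin_cases j <;>
        simp [Matrix.mul_apply, Fin.sum_univ_three, Fin.sum_univ_two]
  have hinj : Function.Injective f := fun a b e => Units.ext (by
    have e' := congrArg (fun X : Matrix.SpecialLinearGroup (Fin 3) F => (X : Matrix (Fin 3) (Fin 3) F)) e
    simp only [hf] at e'
    ext i j
    fin_cases i <;> fin_cases j
    · simpa using congrFun (congrFun e' 0) 0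
    · simpa using congrFun (congrFun e' 0) 1
    · simpa using congrFun (congrFun e' 1) 0
    · simpa using congrFun (congrFun e' 1) 1)
  exact ⟨slHom (f z), by rw [orderOf_injective _ slHom_injective, orderOf_injective _ hinj, hz]⟩

theorem exists_SL2_orders : (∃ S : SL(2, F), orderOf S = Fintype.card F + 1) ∧
    ∃ S : SL(2, F), orderOf S = Fintype.card F - 1 := by
  classical
  obtain ⟨q, hq⟩ : ∃ q, Fintype.card F = q := ⟨_, rfl⟩
  have hq2 : 2 ≤ q := hq ▸ Fintype.one_lt_card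
  constructor
  · obtain ⟨z, hz⟩ := CfsgLib.Known.GLOrders.exists_orderOf_eq_of_dvd (F := F) (n := 2) (d := 2) (by norm_num) le_rfl
      (dvd_refl (Fintype.card F ^ 2 - 1))
    obtain ⟨A, hA⟩ := exists_toGL (det_pow_sub_one z)
    refine ⟨A, ?_⟩
    rw [← orderOf_injective _ Matrix.SpecialLinearGroup.toGL_injective, hA,
      orderOf_pow' _ (by omega : Fintype.card F - 1 ≠ 0), hz, hq,
      show q ^ 2 - 1 = (q - 1) * (q + 1) from by rw [mul_comm, ← Nat.sq_sub_sq, one_pow],
      Nat.gcd_eq_right (Dvd.intro _ rfl), Nat.mul_div_cancel_left _ (by omega : 0 < q - 1)]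
  · obtain ⟨t, ht⟩ := IsCyclic.exists_ofOrder_eq_natCard (α := Fˣ)
    rw [Nat.card_eq_fintype_card, Fintype.card_units] at ht
    obtain ⟨A, hA⟩ := exists_toGL (z := diagPair (t, t⁻¹)) (Units.ext (by simp [diagPair, Matrix.det_fin_two]))
    refine ⟨A, ?_⟩
    rw [← orderOf_injective _ Matrix.SpecialLinearGroup.toGL_injective, hA, ← ht]
    refine orderOf_injective ((diagPair (F := F)).comp ((MonoidHom.id Fˣ).prod invMonoidHom)) (fun a b e => ?_) t
    have := congrArg (fun g : GL (Fin 2) F => (g : Matrix (Fin 2) (Fin 2) F) 0 0) e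
    exact Units.ext (by simpa [diagPair] using this)

/-- A transvection paired with an element of `SL₂`. -/
theorem exists_mixed {p : ℕ} [hp : Fact p.Prime] [CharP F p] (S : SL(2, F)) :
    ∃ g : ↥(G2 F), orderOf g = Nat.lcm p (orderOf S) := by
  obtain ⟨T, hT⟩ : ∃ T : SL(2, F), (T : Matrix (Fin 2) (Fin 2) F) = !![1, 1; 0, 1] :=
    ⟨⟨!![1, 1; 0, 1], by simp [Matrix.det_fin_two]⟩, rfl⟩
  have hTk : ∀ k : ℕ, ((T ^ k : SL(2, F)) : Matrix (Fin 2) (Fin 2) F) = !![1, (k : F); 0, 1] := by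
    intro k
    induction k with
    | zero => ext i j; fin_cases i <;> fin_cases j <;> simp
    | succ k ih =>
      rw [pow_succ, Matrix.SpecialLinearGroup.coe_mul, ih, hT]
      ext i j; fin_cases i <;> fin_cases j <;> simp [Matrix.mul_apply, Fin.sum_univ_two, add_comm]
  have hmem : (Matrix.SpecialLinearGroup.toGL T, Matrix.SpecialLinearGroup.toGL S) ∈ Pairs F := by
    show _ * _ = (1 : Fˣ)
    rw [show Matrix.GeneralLinearGroup.det (Matrix.SpecialLinearGroup.toGL T) = 1 from Units.ext (by simp),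
      show Matrix.GeneralLinearGroup.det (Matrix.SpecialLinearGroup.toGL S) = 1 from Units.ext (by simp)]
    simp
  refine ⟨pairHom ⟨_, hmem⟩, ?_⟩
  have key : ∀ k : ℕ, pairHom ⟨_, hmem⟩ ^ k = 1 ↔ T ^ k = 1 ∧ S ^ k = 1 := by
    intro k
    rw [← map_pow]
    constructor
    · intro e
      obtain ⟨c, hc⟩ := exists_scalar_of_pairHom_eq_one e
      have h1 := congrArg (fun z : GL (Fin 2) F × GL (Fin 2) F => z.1) hc
      have h2 := congrArg (fun z : GL (Fin 2) F × GL (Fin 2) F => z.2) hc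
      simp only [SubgroupClass.coe_pow, Prod.pow_fst, Prod.pow_snd, ← map_pow] at h1 h2
      have hc1 : c = 1 := by
        have := congrArg (fun g : GL (Fin 2) F => (g : Matrix (Fin 2) (Fin 2) F) 0 0) h1
        exact Units.ext (by simpa [diagPair, ← Matrix.SpecialLinearGroup.coe_pow, hTk] using this.symm)
      subst hc1
      rw [show ((1 : Fˣ), (1 : Fˣ)) = 1 from rfl, map_one] at h1 h2
      exact ⟨Matrix.SpecialLinearGroup.toGL_injective (h1.trans (map_one _).symm),
        Matrix.SpecialLinearGroup.toGL_injective (h2.trans (map_one _).symm)⟩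
    · rintro ⟨h1, h2⟩
      have : (⟨_, hmem⟩ : Pairs F) ^ k = 1 := Subtype.ext (Prod.ext
        (by simp only [SubgroupClass.coe_pow, Prod.pow_fst, ← map_pow, h1, map_one]; rfl)
        (by simp only [SubgroupClass.coe_pow, Prod.pow_snd, ← map_pow, h2, map_one]; rfl))
      rw [this, map_one]
  have hTp : orderOf T = p := by
    refine orderOf_eq_prime (Subtype.ext ?_) fun e => ?_
    · rw [hTk, CharP.cast_eq_zero]
      ext i j; fin_cases i <;> fin_cases j <;> simp
    · have := congrArg (fun X : SL(2, F) => (X : Matrix (Fin 2) (Fin 2) F) 0 1) e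
      simp [hT] at this
  rw [← hTp]
  refine Nat.dvd_antisymm (orderOf_dvd_of_pow_eq_one ((key _).2
    ⟨orderOf_dvd_iff_pow_eq_one.1 (Nat.dvd_lcm_left _ _), orderOf_dvd_iff_pow_eq_one.1 (Nat.dvd_lcm_right _ _)⟩)) ?_
  obtain ⟨a, b⟩ := (key _).1 (pow_orderOf_eq_one _)
  exact Nat.lcm_dvd (orderOf_dvd_of_pow_eq_one a) (orderOf_dvd_of_pow_eq_one b)

theorem exists_mixed_orders {p : ℕ} [hp : Fact p.Prime] [CharP F p] :
    (∃ g : ↥(G2 F), orderOf g = p * (Fintype.card F + 1)) ∧ ∃ g : ↥(G2 F), orderOf g = p * (Fintype.card F - 1) := by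
  obtain ⟨⟨S, hS⟩, ⟨S', hS'⟩⟩ := exists_SL2_orders (F := F)
  obtain ⟨a, ha, hqa⟩ := FiniteField.card F p
  have hq : p ∣ Fintype.card F := hqa ▸ dvd_pow_self p a.2.ne'
  have hq0 : 1 ≤ Fintype.card F := Fintype.card_pos
  have c1 : Nat.Coprime p (Fintype.card F + 1) := hp.out.coprime_iff_not_dvd.2 fun h =>
    hp.out.one_lt.ne' (Nat.dvd_one.1 ((Nat.dvd_add_right hq).1 h))
  have c2 : Nat.Coprime p (Fintype.card F - 1) := hp.out.coprime_iff_not_dvd.2 fun h =>
    hp.out.one_lt.ne' (Nat.dvd_one.1 (by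
      have := Nat.dvd_sub hq h
      rwa [Nat.sub_sub_self hq0] at this))
  exact ⟨(exists_mixed S).imp fun g hg => by rw [hg, hS, c1.lcm_eq_mul],
    (exists_mixed S').imp fun g hg => by rw [hg, hS', c2.lcm_eq_mul]⟩

/-- An element over an extension fixed by the Frobenius map comes from the field itself. -/
theorem exists_descend {E : Type*} [Field E] [Algebra F E] (σ : E →+* E) (hσ : ∀ x, σ x = x ^ Fintype.card F)
    (g : ↥(G2 E)) (hg : mapG2 σ g = g) : ∃ g₀ : ↥(G2 F), mapG2 (algebraMap F E) g₀ = g := by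
  obtain ⟨M, hM⟩ : ∃ M, M = ((g : GL (Fin 8) E) : Matrix (Fin 8) (Fin 8) E) := ⟨_, rfl⟩
  have hfix : ∀ i j, ∃ c : F, algebraMap F E c = M i j := fun i j => by
    have h := congrArg (fun x : ↥(G2 E) => ((x : GL (Fin 8) E) : Matrix (Fin 8) (Fin 8) E) i j) hg
    simp only [mapG2_val, Matrix.map_apply, ← hM, hσ] at h
    by_cases h0 : M i j = 0
    · exact ⟨0, by rw [map_zero, h0]⟩
    · refine CfsgLib.Known.PSLTori.exists_algebraMap_eq _ ?_
      obtain ⟨r, hr⟩ : ∃ r, Fintype.card F = r + 1 := ⟨Fintype.card F - 1, by have := Fintype.card_pos (α := F); omega⟩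
      rw [hr, pow_succ] at h
      rw [hr, Nat.add_sub_cancel]
      exact mul_right_cancel₀ h0 (h.trans (one_mul _).symm)
  choose c hc using hfix
  have hmap : (Matrix.of c).map (algebraMap F E) = M := by ext i j; exact hc i j
  have hdet : (Matrix.of c).det ≠ 0 := fun e => by
    have h := RingHom.map_det (algebraMap F E) (Matrix.of c)
    rw [e, map_zero, RingHom.mapMatrix_apply, hmap, hM] at h
    exact ((Matrix.isUnit_iff_isUnit_det _).1 (Units.isUnit _)).ne_zero h.symm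
  obtain ⟨u, hu⟩ : ∃ u : GL (Fin 8) F, (u : Matrix (Fin 8) (Fin 8) F) = Matrix.of c :=
    ⟨Matrix.GeneralLinearGroup.mkOfDetNeZero _ hdet, rfl⟩
  have hmem : u ∈ G2 F := by
    rw [mem_G2_iff]
    intro a
    have h := (mem_G2_iff (g : GL (Fin 8) E)).1 g.2 a
    refine Matrix.map_injective (algebraMap F E).injective ?_
    simp only [Matrix.map_mul, ev_map, map_one, lmul_map, hu, hmap]
    rw [hM]
    convert h using 3
    funext i
    rw [← hM]; exact hc i a
  exact ⟨⟨u, hmem⟩, Subtype.ext (Units.ext (by rw [mapG2_val, ← hM]; show (u : Matrix (Fin 8) (Fin 8) F).map _ = M; rw [hu, hmap]))⟩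

theorem act_mapG2 {E : Type*} [Field E] {E' : Type*} [Field E'] (σ : E →+* E') (g : ↥(G2 E)) (v : Fin 8 → E) :
    act (mapG2 σ g) (σ ∘ v) = σ ∘ act g v := by
  funext i
  rw [act_eq_mulVec, act_eq_mulVec, mapG2_val, Function.comp_apply, RingHom.map_mulVec]

theorem mapG2_slHom {E : Type*} [Field E] (σ : E →+* E) (hσ : Function.Surjective σ)
    (A : Matrix.SpecialLinearGroup (Fin 3) E) :
    mapG2 σ (slHom A) = slHom (Matrix.SpecialLinearGroup.map σ A) := by
  refine act_injective (LinearEquiv.ext fun v => ?_)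
  obtain ⟨w, rfl⟩ : ∃ w, v = σ ∘ w := ⟨fun i => (hσ (v i)).choose, funext fun i => (hσ (v i)).choose_spec.symm⟩
  rw [act_mapG2, act_slHom, act_slHom]
  funext i
  have hadj := RingHom.map_adjugate σ (A : Matrix (Fin 3) (Fin 3) E)
  fin_cases i <;>
    simp [slFun, zVec, zA, zB, coM, Matrix.mulVec, dotProduct, Fin.sum_univ_three, Matrix.adjugate_fin_three]

theorem mapG2_pairHom {E : Type*} [Field E] (σ : E →+* E) (hσ : Function.Surjective σ) (π π' : Pairs E)
    (h1 : (π'.1.1 : Matrix (Fin 2) (Fin 2) E) = (π.1.1 : Matrix (Fin 2) (Fin 2) E).map σ)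
    (h2 : (π'.1.2 : Matrix (Fin 2) (Fin 2) E) = (π.1.2 : Matrix (Fin 2) (Fin 2) E).map σ) :
    mapG2 σ (pairHom π) = pairHom π' := by
  refine act_injective (LinearEquiv.ext fun v => ?_)
  obtain ⟨w, rfl⟩ : ∃ w, v = σ ∘ w := ⟨fun i => (hσ (v i)).choose, funext fun i => (hσ (v i)).choose_spec.symm⟩
  rw [act_mapG2, act_pairHom, act_pairHom]
  have h3 : ((π'.1.1⁻¹ : GL (Fin 2) E) : Matrix (Fin 2) (Fin 2) E) =
      ((π.1.1⁻¹ : GL (Fin 2) E) : Matrix (Fin 2) (Fin 2) E).map σ := by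
    refine left_inv_eq_right_inv (Units.inv_mul _) ?_
    rw [h1, ← Matrix.map_mul, Units.mul_inv, Matrix.map_one σ (map_zero σ) (map_one σ)]
  funext i
  fin_cases i <;> simp [pairFun, zMk, zH, zN, h1, h2, h3, Matrix.mul_apply, Fin.sum_univ_two]

theorem exists_minus : ∃ g : ↥(G2 F), orderOf g = Fintype.card F ^ 2 - Fintype.card F + 1 := by
  classical
  obtain ⟨p, hchar⟩ := CharP.exists F
  haveI := hchar
  obtain ⟨a, hp, -⟩ := FiniteField.card F p
  haveI : Fact p.Prime := ⟨hp⟩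
  let E := FiniteField.Extension F p 2
  haveI : Finite E := Module.finite_of_finite F
  haveI : Fintype E := Fintype.ofFinite E
  obtain ⟨q, hq⟩ : ∃ q, Fintype.card F = q := ⟨_, rfl⟩
  have hq2 : 2 ≤ q := hq ▸ Fintype.one_lt_card
  have hE : Fintype.card E = q ^ 2 := by
    rw [← Nat.card_eq_fintype_card, FiniteField.natCard_extension F p 2, Nat.card_eq_fintype_card, hq]
  obtain ⟨σ, hσq⟩ : ∃ σ : E →+* E, ∀ x, σ x = x ^ q :=
    ⟨CfsgLib.Classical.Herm.powHom hE, fun x => CfsgLib.Classical.Herm.powHom_apply hE x⟩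
  have hσσ : ∀ x, σ (σ x) = x := fun x => by
    rw [hσq, hσq, ← pow_mul, ← pow_two, ← hE, FiniteField.pow_card]
  have hσs : Function.Surjective σ := fun x => ⟨σ x, hσσ x⟩
  obtain ⟨η, hη⟩ := IsCyclic.exists_ofOrder_eq_natCard (α := Eˣ)
  rw [Nat.card_eq_fintype_card, Fintype.card_units, hE] at hη
  have hsq : q ^ 2 - 1 = (q + 1) * (q - 1) := by rw [← Nat.sq_sub_sq, one_pow]
  -- an element whose norm is `-1`
  obtain ⟨ω, hω⟩ : ∃ ω : E, ω * σ ω = -1 := by
    by_cases h2 : Even q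
    · refine ⟨1, ?_⟩
      haveI : CharP E p := charP_of_injective_algebraMap (algebraMap F E).injective p
      have hp2 : p = 2 := by
        obtain ⟨a, -, hqa⟩ := FiniteField.card F p
        rw [hq] at hqa
        rw [hqa, Nat.even_pow] at h2
        exact (hp.even_iff).1 h2.1
      subst hp2
      rw [map_one, mul_one, CharTwo.neg_eq]
    · obtain ⟨r, hr⟩ := Nat.not_even_iff_odd.1 h2
      refine ⟨((η ^ r : Eˣ) : E), ?_⟩
      rw [hσq, Units.val_pow_eq_pow_val, ← pow_mul, ← pow_add]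
      have e : r + r * q = (q ^ 2 - 1) / 2 := by
        rw [hsq, hr, Nat.add_sub_cancel, show (2 * r + 1 + 1) * (2 * r) = (r + r * (2 * r + 1)) * 2 by ring,
          Nat.mul_div_cancel _ two_pos]
      have h1 : ((η : E) ^ (r + r * q)) ^ 2 = 1 := by
        rw [← pow_mul, ← Units.val_pow_eq_pow_val,
          orderOf_dvd_iff_pow_eq_one.1 (show orderOf η ∣ (r + r * q) * 2 from ⟨1, by
            rw [hη, hsq, hr, Nat.add_sub_cancel]; ring⟩), Units.val_one]
      rcases sq_eq_one_iff.1 h1 with e1 | e1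
      · exfalso
        rw [← Units.val_pow_eq_pow_val, Units.val_eq_one] at e1
        have hd := Nat.le_of_dvd (Nat.pos_of_ne_zero fun e => by simp only [Nat.add_eq_zero_iff, mul_eq_zero] at e; omega) (orderOf_dvd_of_pow_eq_one e1)
        rw [hη, hsq, hr, Nat.add_sub_cancel] at hd
        nlinarith
      · exact e1
  have hω0 : ω ≠ 0 := fun e => by rw [e, zero_mul] at hω; exact one_ne_zero (neg_eq_zero.1 hω.symm)
  -- the special unitary element
  obtain ⟨x, hx⟩ := CfsgLib.HallGen.UnitarySpectrum.exists_torus (F := E) hE (m := 3) (by norm_num)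
  rw [CfsgLib.HallGen.UnitarySpectrum.torusOrder_three q (by omega)] at hx
  obtain ⟨U, hU⟩ : ∃ U, U = (CfsgLib.Classical.Herm.suEquiv 3 hE).symm x := ⟨_, rfl⟩
  have hUord : orderOf (U : Matrix.SpecialLinearGroup (Fin 3) E) = q ^ 2 - q + 1 := by
    rw [Subgroup.orderOf_coe, hU, MulEquiv.orderOf_eq, hx]
  obtain ⟨W, hW⟩ : ∃ W, W = ((U : Matrix.SpecialLinearGroup (Fin 3) E) : Matrix (Fin 3) (Fin 3) E) := ⟨_, rfl⟩
  have hWinv : Wᵀ * W.map σ = 1 := by
    ext i j
    have h := U.2 (Pi.single i 1) (Pi.single j 1)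
    simp only [Cfsg.hermForm] at h
    rw [Matrix.mul_apply]
    simp only [Matrix.transpose_apply, Matrix.map_apply, hσq, hW]
    by_cases hij : i = j
    · subst hij
      simpa [Matrix.mulVec_single_one, Cfsg.slToMat, Pi.single_apply, Finset.sum_ite_eq', show q ≠ 0 by omega,
        ite_pow] using h
    · simpa [Matrix.mulVec_single_one, Cfsg.slToMat, Pi.single_apply, Finset.sum_ite_eq', show q ≠ 0 by omega,
        ite_pow, hij, Ne.symm hij] using h
  -- move it to the form `diag(1, -1, 1)`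
  obtain ⟨T, hT⟩ : ∃ T : GL (Fin 3) E, (T : Matrix (Fin 3) (Fin 3) E) = Matrix.diagonal ![1, ω, 1] :=
    ⟨Matrix.GeneralLinearGroup.mkOfDetNeZero _ (by simp [Matrix.det_diagonal, Fin.prod_univ_three, hω0] :
      (Matrix.diagonal ![1, ω, 1]).det ≠ 0), rfl⟩
  obtain ⟨A, hA⟩ : ∃ A : Matrix.SpecialLinearGroup (Fin 3) E,
      Matrix.SpecialLinearGroup.toGL A = T⁻¹ * Matrix.SpecialLinearGroup.toGL (U : Matrix.SpecialLinearGroup (Fin 3) E) * T :=
    exists_toGL (by
      rw [map_mul, map_mul, map_inv, mul_comm, mul_inv_cancel_left]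
      exact Units.ext (by simp))
  have hAord : orderOf A = q ^ 2 - q + 1 := by
    rw [← orderOf_injective _ Matrix.SpecialLinearGroup.toGL_injective, hA, ← hUord,
      ← orderOf_injective _ Matrix.SpecialLinearGroup.toGL_injective (U : Matrix.SpecialLinearGroup (Fin 3) E)]
    simpa using (MulAut.conj T⁻¹).orderOf_eq (Matrix.SpecialLinearGroup.toGL (U : Matrix.SpecialLinearGroup (Fin 3) E))
  have hrel : ∀ i j, (T : Matrix (Fin 3) (Fin 3) E) i i * (A : Matrix (Fin 3) (Fin 3) E) i j =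
      W i j * (T : Matrix (Fin 3) (Fin 3) E) j j := by
    intro i j
    have h := congrArg (fun g : GL (Fin 3) E => ((T * g : GL (Fin 3) E) : Matrix (Fin 3) (Fin 3) E) i j) hA
    simp only [← mul_assoc, mul_inv_cancel, one_mul] at h
    rw [Units.val_mul, Units.val_mul, hT, Matrix.diagonal_mul, Matrix.mul_diagonal] at h
    rw [hW]
    simpa [hT] using h
  obtain ⟨B, hB⟩ : ∃ B, B = Matrix.diagonal ![(1 : E), -1, 1] := ⟨_, rfl⟩
  have hAinv : (A : Matrix (Fin 3) (Fin 3) E)ᵀ * B * (A : Matrix (Fin 3) (Fin 3) E).map σ = B := by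
    have hTB : ∀ k, ![(1 : E), ω, 1] k * σ (![(1 : E), ω, 1] k) = ![(1 : E), -1, 1] k := fun k => by
      fin_cases k <;> simp [hω]
    ext i j
    have h := congrFun (congrFun hWinv i) j
    rw [Matrix.mul_apply] at h
    rw [hB, Matrix.mul_apply]
    simp only [Matrix.mul_diagonal, Matrix.transpose_apply, Matrix.map_apply] at h ⊢
    simp only [hT, Matrix.diagonal_apply_eq] at hrel
    have e : ∑ k, (A : Matrix (Fin 3) (Fin 3) E) k i * ![(1 : E), -1, 1] k * σ ((A : Matrix (Fin 3) (Fin 3) E) k j) =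
        ![(1 : E), ω, 1] i * σ (![(1 : E), ω, 1] j) * ∑ k, W k i * σ (W k j) := by
      rw [Finset.mul_sum]
      refine Finset.sum_congr rfl fun k _ => ?_
      have r1 := hrel k i
      have r2 := congrArg σ (hrel k j)
      rw [map_mul, map_mul] at r2
      rw [← hTB k]
      linear_combination (σ (![(1 : E), ω, 1] k) * σ ((A : Matrix (Fin 3) (Fin 3) E) k j)) * r1 +
        (W k i * ![(1 : E), ω, 1] i) * r2
    rw [e, h, Matrix.one_apply, Matrix.diagonal_apply]
    split_ifs with hij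
    · subst hij; rw [mul_one, hTB]
    · rw [mul_zero]
  -- the conjugating pair over `E`
  obtain ⟨θ, hθ⟩ : ∃ θ : E, σ θ ≠ θ := by
    refine ⟨η, fun e => ?_⟩
    rw [hσq] at e
    obtain ⟨r, rfl⟩ : ∃ r, q = r + 2 := ⟨q - 2, by omega⟩
    have e' : (η : E) ^ (r + 1) = 1 := mul_right_cancel₀ η.ne_zero (by rw [← pow_succ, one_mul, e])
    rw [← Units.val_pow_eq_pow_val, Units.val_eq_one] at e'
    have hd := Nat.le_of_dvd (by omega) (orderOf_dvd_of_pow_eq_one e')
    rw [hη] at hd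
    have : (r + 2) * 2 ≤ (r + 2) ^ 2 := by nlinarith
    omega
  obtain ⟨P, hP⟩ : ∃ P : GL (Fin 2) E, (P : Matrix (Fin 2) (Fin 2) E) = !![1, θ; 1, σ θ] :=
    ⟨Matrix.GeneralLinearGroup.mkOfDetNeZero _ (by
      rw [Matrix.det_fin_two_of, one_mul, mul_one]; exact sub_ne_zero.2 hθ), rfl⟩
  obtain ⟨w, hw⟩ : ∃ w : GL (Fin 2) E, w = swapTwo := ⟨_, rfl⟩
  have hσP : ((w * P : GL (Fin 2) E) : Matrix (Fin 2) (Fin 2) E) = (P : Matrix (Fin 2) (Fin 2) E).map σ := by
    rw [Units.val_mul, hP, hw]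
    ext i j
    fin_cases i <;> fin_cases j <;> simp [swapTwo, Matrix.mul_apply, Fin.sum_univ_two, hσσ]
  obtain ⟨h, hh⟩ : ∃ h : ↥(G2 E), h = pairHom ⟨(P, P), pair_mem⟩ := ⟨_, rfl⟩
  obtain ⟨m, hm⟩ : ∃ m : ↥(G2 E), m = pairHom ⟨(w, w), pair_mem⟩ := ⟨_, rfl⟩
  have hmh : mapG2 σ h = m * h := by
    rw [hh, hm, ← map_mul]
    exact mapG2_pairHom σ hσs ⟨(P, P), pair_mem⟩ ⟨(w * P, w * P), pair_mem⟩ hσP hσP
  have hmA : slHom (Matrix.SpecialLinearGroup.map σ A) = m * slHom A * m⁻¹ := by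
    have hww : w⁻¹ = w := by rw [hw, swapTwo_inv]
    refine eq_mul_inv_of_mul_eq (act_injective (LinearEquiv.ext fun v => ?_))
    rw [map_mul, map_mul, LinearEquiv.mul_apply, LinearEquiv.mul_apply, hm, act_pairHom, act_pairHom,
      act_slHom, act_slHom]
    obtain ⟨Aσ, hAσ⟩ : ∃ Aσ, Aσ = (A : Matrix (Fin 3) (Fin 3) E).map σ := ⟨_, rfl⟩
    have hσA : Aσ = B * coM A * B := by
      have hBB : B * B = 1 := by
        rw [hB, Matrix.diagonal_mul_diagonal, ← Matrix.diagonal_one]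
        congr 1; funext k; fin_cases k <;> norm_num
      have hco : coM A * (A : Matrix (Fin 3) (Fin 3) E)ᵀ = 1 := by
        rw [coM, ← Matrix.transpose_mul, Matrix.mul_adjugate, A.2, one_smul, Matrix.transpose_one]
      calc Aσ = B * (coM A * (A : Matrix (Fin 3) (Fin 3) E)ᵀ) * (B * Aσ) := by
            rw [hco, mul_one, ← mul_assoc, hBB, one_mul]
        _ = B * coM A * ((A : Matrix (Fin 3) (Fin 3) E)ᵀ * B * Aσ) := by simp only [mul_assoc]
        _ = _ := by rw [hAσ, hAinv]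
    have hσA' : coM (Matrix.SpecialLinearGroup.map σ A) = B * (A : Matrix (Fin 3) (Fin 3) E) * B := by
      have e : B.adjugate = -B := by
        rw [hB, Matrix.adjugate_diagonal, Matrix.diagonal_neg]
        congr 1; funext k
        fin_cases k
        · simp [show (Finset.univ.erase (0 : Fin 3)) = {1, 2} by decide]
        · simp [show (Finset.univ.erase (1 : Fin 3)) = {0, 2} by decide]
          ring
        · simp [show (Finset.univ.erase (2 : Fin 3)) = {0, 1} by decide]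
      have hadj : (coM A).adjugate = (A : Matrix (Fin 3) (Fin 3) E)ᵀ := by
        rw [coM, ← Matrix.adjugate_transpose, Matrix.adjugate_adjugate _ (by simp), A.2]
        simp
      show ((Matrix.SpecialLinearGroup.map σ A : Matrix.SpecialLinearGroup (Fin 3) E) :
        Matrix (Fin 3) (Fin 3) E).adjugateᵀ = _
      rw [show ((Matrix.SpecialLinearGroup.map σ A : Matrix.SpecialLinearGroup (Fin 3) E) :
        Matrix (Fin 3) (Fin 3) E) = Aσ from hAσ.symm, hσA, Matrix.adjugate_mul_distrib,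
        Matrix.adjugate_mul_distrib, hadj, e]
      simp only [Matrix.transpose_mul, Matrix.transpose_neg, Matrix.neg_mul, Matrix.mul_neg, neg_neg, hB,
        Matrix.diagonal_transpose, Matrix.transpose_transpose, mul_assoc]
      exact (fun M : Matrix (Fin 3) (Fin 3) E => neg_neg M) _
    have hmapval : ((Matrix.SpecialLinearGroup.map σ A : Matrix.SpecialLinearGroup (Fin 3) E) :
        Matrix (Fin 3) (Fin 3) E) = B * coM A * B := hAσ.symm.trans hσA
    funext i
    fin_cases i <;>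
      simp [pairFun, zMk, zH, zN, slFun, zVec, zA, zB, hw, swapTwo, hσA', hmapval, hB, Matrix.mulVec, dotProduct,
        Fin.sum_univ_three, Matrix.mul_apply, Fin.sum_univ_two, Matrix.diagonal] <;> ring
  obtain ⟨g, hg⟩ := exists_descend σ (fun x => by rw [hσq, hq]) (h⁻¹ * slHom A * h) (by
    rw [map_mul, map_mul, map_inv, hmh, mapG2_slHom σ hσs, hmA, mul_inv_rev]
    simp only [mul_assoc, inv_mul_cancel_left])
  refine ⟨g, ?_⟩
  rw [← orderOf_injective _ (mapG2_injective (algebraMap F E)), hg, hq, ← hAord,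
    ← orderOf_injective _ slHom_injective A]
  simpa using (MulAut.conj h⁻¹).orderOf_eq (slHom A)

end CfsgLib.Known.G2Oct
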