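import Cfsg.Agent.Lib.Known.G2Oct.Trace
import Cfsg.Agent.Lib.Classical.EigenOrbit.Diag

/-!
# Semisimple automorphisms of Zorn's algebra over an algebraically closed field

Such an automorphism fixes an idempotent, so it is conjugate to a diagonal element of `SL₃`.
-/

set_option autoImplicit false

namespace CfsgLib.Known.G2Oct

open Cfsg.Lie (G2 zornMul zA zB dot3 cross3)
open CfsgLib.Classical.SylowAb.Octonion
open scoped Matrix

variable {K : Type*} [Field K]

theorem mem_idem {x : Fin 8 → K} (ht : tr x = 1) (hn : nm x = 0) : x ∈ Idem K :=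
  ⟨ht, sub_eq_zero.1 hn⟩

theorem act_pow_eig (s : G2 K) {x : Fin 8 → K} {μ : K} (hx : act s x = μ • x) (i : ℕ) :
    act (s ^ i) x = μ ^ i • x := by
  induction i with
  | zero => simp
  | succ i ih =>
    rw [pow_succ, map_mul, LinearEquiv.mul_apply, hx, map_smul, ih, smul_smul, pow_succ, mul_comm]

/-- An eigenvector whose eigenvalue is not its own inverse gives a fixed idempotent. -/
theorem exists_fixed_idem_of_eig (s : G2 K) {m : ℕ} (hm : (m : K) ≠ 0) (hs : s ^ m = 1)
    {x : Fin 8 → K} {μ : K} (hx0 : x ≠ 0) (hx : act s x = μ • x) (hμ : μ ^ 2 ≠ 1) :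
    ∃ z ∈ Idem K, act s z = z := by
  have hμm : μ ^ m = 1 := by
    have h := act_pow_eig s hx m
    rw [hs, map_one] at h
    exact (smul_left_injective K hx0 (by simpa using h)).symm
  have hm0 : m ≠ 0 := fun h => hm (by rw [h, Nat.cast_zero])
  have hμ0 : μ ≠ 0 := fun h => by rw [h, zero_pow hm0] at hμm; exact zero_ne_one hμm
  have hμ1 : μ ≠ 1 := fun h => hμ (by rw [h, one_pow])
  have htx : tr x = 0 := by
    have h := tr_act s x
    rw [hx, tr_smul] at h
    exact (mul_eq_zero.1 (show (μ - 1) * tr x = 0 by linear_combination h)).resolve_left (sub_ne_zero.2 hμ1)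
  have hnx : nm x = 0 := by
    have h := nm_act s x
    rw [hx, nm_smul] at h
    exact (mul_eq_zero.1 (show (μ ^ 2 - 1) * nm x = 0 by linear_combination h)).resolve_left (sub_ne_zero.2 hμ)
  obtain ⟨w, hw⟩ := exists_tr_mul_ne_zero hx0
  obtain ⟨f, hf⟩ : ∃ f : ℕ → Fin 8 → K, ∀ i, f i = μ ^ i • act (s ^ i) w := ⟨_, fun _ => rfl⟩
  have hTi : ∀ i, tr (zornMul x (f i)) = tr (zornMul x w) := fun i => by
    have h := tr_act (s ^ i) (zornMul x w)
    rw [act_mul_apply, act_pow_eig s hx i, zornMul_smul_left] at h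
    rw [hf, zornMul_smul_right]
    exact h
  obtain ⟨y, hy⟩ : ∃ y, y = ∑ i ∈ Finset.range m, f i := ⟨_, rfl⟩
  have hys : μ • act s y = y := by
    have h1 : ∀ i, μ • act s (f i) = f (i + 1) := fun i => by
      rw [hf, hf, map_smul, smul_smul, ← pow_succ', pow_succ' s, map_mul, LinearEquiv.mul_apply]
    rw [hy, map_sum, Finset.smul_sum, Finset.sum_congr rfl fun i _ => h1 i]
    have e := (Finset.sum_range_succ' f m).symm.trans (Finset.sum_range_succ f m)
    rwa [show f m = f 0 by rw [hf, hf, hs, hμm, pow_zero, pow_zero], add_left_inj] at e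
  have hT : tr (zornMul x y) = (m : K) * tr (zornMul x w) := by
    have e : ∀ n : ℕ, tr (zornMul x (∑ i ∈ Finset.range n, f i)) = (n : K) * tr (zornMul x w) := by
      intro n
      induction n with
      | zero => simp [tr, zornMul, zA, zB, dot3, cross3]
      | succ n ih => rw [Finset.sum_range_succ, zornMul_add_right, tr_add, ih, hTi]; push_cast; ring
    rw [hy, e]
  have hT0 : tr (zornMul x y) ≠ 0 := hT ▸ mul_ne_zero hm hw
  refine ⟨(tr (zornMul x y))⁻¹ • zornMul x y, mem_idem (by rw [tr_smul, inv_mul_cancel₀ hT0])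
    (by rw [nm_smul, nm_mul, hnx, zero_mul, mul_zero]), ?_⟩
  rw [map_smul, act_mul_apply, hx, zornMul_smul_left, ← zornMul_smul_right, hys]

/-- An involution fixes an idempotent. -/
theorem exists_fixed_idem_of_sq [IsAlgClosed K] (h2 : (2 : K) ≠ 0) (s : G2 K) (hs : s ^ 2 = 1) :
    ∃ z ∈ Idem K, act s z = z := by
  have hss : ∀ x, act s (act s x) = x := fun x => by
    rw [← LinearEquiv.mul_apply, ← map_mul, ← pow_two, hs, map_one]; rfl
  have hz : ∃ z : Fin 8 → K, z ≠ 0 ∧ tr z = 0 ∧ act s z = z := by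
    by_cases h : ∃ x : Fin 8 → K, tr x = 0 ∧ act s x ≠ -x
    · obtain ⟨x, hx, hne⟩ := h
      refine ⟨x + act s x, fun h => hne (eq_neg_of_add_eq_zero_right h), ?_, ?_⟩
      · rw [tr_add, tr_act, hx, add_zero]
      · rw [map_add, hss, add_comm]
    · push_neg at h
      exfalso
      have h1 := h (Pi.single 1 1) (by simp [tr])
      have h2' := h (Pi.single 2 1) (by simp [tr])
      have h6 := h (Pi.single 6 1) (by simp [tr])
      have e : zornMul (Pi.single 1 (1 : K)) (Pi.single 2 1) = Pi.single 6 1 := by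
        funext k; fin_cases k <;> simp [zornMul, zA, zB, dot3, cross3]
      rw [← e, act_mul_apply, h1, h2', e] at h6
      have h6' := congrFun h6 6
      simp [zornMul, zA, zB, dot3, cross3] at h6'
      exact h2 (by linear_combination h6')
  obtain ⟨z, hz0, htz, hsz⟩ := hz
  have key : ∀ z : Fin 8 → K, tr z = 0 → nm z ≠ 0 → act s z = z → ∃ x ∈ Idem K, act s x = x := by
    intro z htz hnz hsz
    obtain ⟨c, hc⟩ := IsAlgClosed.exists_pow_nat_eq (-nm z) (by norm_num : 0 < 2)
    have hc0 : c ≠ 0 := fun h => hnz (by rw [h] at hc; simpa using hc.symm)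
    refine ⟨(2 : K)⁻¹ • oneO K + (2 * c)⁻¹ • z, mem_idem ?_ ?_, ?_⟩
    · rw [tr_add, tr_smul, tr_smul, tr_oneO, htz, mul_zero, add_zero, inv_mul_cancel₀ h2]
    · rw [polar, nm_smul, nm_smul, tr_smul, tr_smul, htz, zornMul_smul_left, zornMul_smul_right, one_mulO,
        tr_smul, tr_smul, htz]
      have : nm (oneO K) = 1 := by simp [nm, oneO, zVec, zA, zB, dot3]
      rw [this]
      field_simp
      linear_combination hc
    · rw [map_add, map_smul, map_smul, act_oneO, hsz]
  by_cases hnz : nm z = 0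
  swap
  · exact key z htz hnz hsz
  obtain ⟨w, hw⟩ := exists_tr_mul_ne_zero hz0
  obtain ⟨v, hv⟩ : ∃ v, v = w + act s w - ((2 : K)⁻¹ * tr (w + act s w)) • oneO K := ⟨_, rfl⟩
  have htv : tr v = 0 := by
    rw [hv, tr_sub, tr_smul, tr_oneO]
    field_simp
    ring
  have hsv : act s v = v := by
    rw [hv, map_sub, map_add, hss, map_smul, act_oneO, add_comm (act s w)]
  have hT : tr (zornMul z v) = 2 * tr (zornMul z w) := by
    have e1 : tr (zornMul z (act s w)) = tr (zornMul z w) := by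
      have h := tr_act s (zornMul z w)
      rwa [act_mul_apply, hsz] at h
    rw [hv, sub_eq_add_neg, ← neg_smul, zornMul_add_right, zornMul_add_right, zornMul_smul_right, mul_oneO,
      tr_add, tr_add, tr_smul, htz, e1]
    ring
  by_cases hnv : nm v = 0
  swap
  · exact key v htv hnv hsv
  refine key (z + v) (by rw [tr_add, htz, htv, add_zero]) ?_ (by rw [map_add, hsz, hsv])
  rw [polar, hnz, hnv, htz, hT]
  simpa using mul_ne_zero h2 hw

/-- A semisimple automorphism other than the identity fixes an idempotent. -/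
theorem exists_fixed_idem [IsAlgClosed K] (s : G2 K) {m : ℕ} (hm : (m : K) ≠ 0) (hs : s ^ m = 1) (hne : s ≠ 1) :
    ∃ z ∈ Idem K, act s z = z := by
  have hM : ((s : GL (Fin 8) K) : Matrix (Fin 8) (Fin 8) K) ^ m = 1 := by
    rw [← Units.val_pow_eq_pow_val, ← SubgroupClass.coe_pow, hs]; rfl
  obtain ⟨b, d, hd⟩ := CfsgLib.Classical.EigenOrbit.exists_eigen_family _ hm hM
  have hb : ∀ i, act s (b i) = d i • b i := fun i => by rw [act_eq_mulVec]; exact hd i
  by_cases h : ∃ i, d i ^ 2 ≠ 1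
  · obtain ⟨i, hi⟩ := h
    exact exists_fixed_idem_of_eig s hm hs (b.ne_zero i) (hb i) hi
  push_neg at h
  have h2 : (2 : K) ≠ 0 := fun h2 => hne (act_injective (LinearEquiv.toLinearMap_injective (b.ext fun i => by
    have : d i = 1 := sub_eq_zero.1 (pow_eq_zero_iff (n := 2) (by norm_num) |>.1
      (show (d i - 1) ^ 2 = 0 by linear_combination h i - (d i - 1) * h2))
    simp [hb i, this, map_one])))
  refine exists_fixed_idem_of_sq h2 s (act_injective (LinearEquiv.toLinearMap_injective (b.ext fun i => ?_)))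
  simp [map_pow, act_pow_eig, pow_two, hb i, map_smul, smul_smul, ← pow_two (d i), h i]

/-- The weights of a diagonal element. -/
def wt (d : Fin 3 → K) : Fin 8 → K := ![1, d 0, d 1, d 2, (d 0)⁻¹, (d 1)⁻¹, (d 2)⁻¹, 1]

theorem act_slHom_diag {D : Matrix.SpecialLinearGroup (Fin 3) K} {d : Fin 3 → K}
    (hD : (D : Matrix (Fin 3) (Fin 3) K) = Matrix.diagonal d) (x : Fin 8 → K) :
    act (slHom D) x = fun i => wt d i * x i := by
  have hdet : d 0 * d 1 * d 2 = 1 := by
    have := D.2; rw [hD, Matrix.det_diagonal, Fin.prod_univ_three] at this; exact this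
  have h0 : d 0 ≠ 0 := fun h => zero_ne_one (α := K) (by rw [← hdet, h, zero_mul, zero_mul])
  have h1 : d 1 ≠ 0 := fun h => zero_ne_one (α := K) (by rw [← hdet, h, mul_zero, zero_mul])
  have h2 : d 2 ≠ 0 := fun h => zero_ne_one (α := K) (by rw [← hdet, h, mul_zero])
  have e0 : d 1 * d 2 = (d 0)⁻¹ := eq_inv_of_mul_eq_one_left (by linear_combination hdet)
  have e1 : d 0 * d 2 = (d 1)⁻¹ := eq_inv_of_mul_eq_one_left (by linear_combination hdet)
  have e2 : d 0 * d 1 = (d 2)⁻¹ := eq_inv_of_mul_eq_one_left (by linear_combination hdet)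
  have hco : coM D = Matrix.diagonal ![d 1 * d 2, d 0 * d 2, d 0 * d 1] := by
    rw [coM, hD, Matrix.adjugate_diagonal, Matrix.diagonal_transpose]
    congr 1
    funext i
    fin_cases i
    · simp [show (Finset.univ.erase (0 : Fin 3)) = {1, 2} by decide]
    · simp [show (Finset.univ.erase (1 : Fin 3)) = {0, 2} by decide]
    · simp [show (Finset.univ.erase (2 : Fin 3)) = {0, 1} by decide]
  rw [act_slHom]
  funext i
  fin_cases i <;>
    simp [slFun, zVec, zA, zB, hco, hD, wt, Matrix.mulVec_diagonal, ← e0, ← e1, ← e2]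

/-- Normal form: a fixed eigenvalue comes first, and otherwise a repeated one last. -/
def NormalForm (d : Fin 3 → K) : Prop :=
  ((∃ i, d i = 1) → d 0 = 1) ∧ ((∀ i, d i ≠ 1) → ¬ Function.Injective d → d 1 = d 2)

theorem exists_normalForm (d : Fin 3 → K) : ∃ π : Equiv.Perm (Fin 3), NormalForm (d ∘ π) := by
  by_cases h : ∃ i, d i = 1
  · obtain ⟨i, hi⟩ := h
    exact ⟨Equiv.swap 0 i, fun _ => by simp [hi], fun hne => absurd hi (by
      have := hne (Equiv.swap 0 i i); simpa using this)⟩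
  by_cases hinj : Function.Injective d
  · exact ⟨1, fun ⟨i, hi⟩ => absurd ⟨_, hi⟩ h, fun _ hn => absurd hinj (by simpa using hn)⟩
  simp only [Function.Injective, not_forall] at hinj
  obtain ⟨i, j, hij, hne⟩ := hinj
  have hk : ∀ i j : Fin 3, i ≠ j → ∃ π : Equiv.Perm (Fin 3), π 1 = i ∧ π 2 = j := by decide
  obtain ⟨π, h1, h2⟩ := hk i j hne
  exact ⟨π, fun ⟨a, ha⟩ => absurd ⟨_, ha⟩ h, fun _ _ => by simp [h1, h2, hij]⟩

/-- A semisimple automorphism is conjugate to a diagonal element of `SL₃`. -/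
theorem exists_diag_conj [IsAlgClosed K] (s : G2 K) {m : ℕ} (hm : (m : K) ≠ 0) (hs : s ^ m = 1) (hne : s ≠ 1) :
    ∃ (h : G2 K) (D : Matrix.SpecialLinearGroup (Fin 3) K) (d : Fin 3 → K),
      (D : Matrix (Fin 3) (Fin 3) K) = Matrix.diagonal d ∧ NormalForm d ∧ h * s * h⁻¹ = slHom D ∧
      slHom D ≠ 1 := by
  obtain ⟨z, hz, hsz⟩ := exists_fixed_idem s hm hs hne
  obtain ⟨h₁, hh₁⟩ := exists_act_eO hz
  obtain ⟨A, hA⟩ := exists_slHom_of_fix (g := h₁ * s * h₁⁻¹) (by
    rw [map_mul, map_mul, LinearEquiv.mul_apply, LinearEquiv.mul_apply, map_inv,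
      show (act h₁)⁻¹ (eO K) = z from (by rw [← hh₁]; exact (act h₁).symm_apply_apply z), hsz, hh₁])
  have hAm : (A : Matrix (Fin 3) (Fin 3) K) ^ m = 1 := by
    have : A ^ m = 1 := slHom_injective (by rw [map_pow, hA, map_one, conj_pow, hs, mul_one, mul_inv_cancel])
    rw [← Matrix.SpecialLinearGroup.coe_pow, this, Matrix.SpecialLinearGroup.coe_one]
  obtain ⟨P, d, hP⟩ := CfsgLib.Classical.EigenOrbit.exists_diag _ hm hAm
  obtain ⟨π, hπ⟩ := exists_normalForm d
  obtain ⟨Q, hQ⟩ : ∃ Q : Matrix (Fin 3) (Fin 3) K, Q = (P : Matrix (Fin 3) (Fin 3) K).submatrix id π := ⟨_, rfl⟩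
  have hAQ : (A : Matrix (Fin 3) (Fin 3) K) * Q = Q * Matrix.diagonal (d ∘ π) := by
    have e : (A : Matrix (Fin 3) (Fin 3) K) * (P : Matrix (Fin 3) (Fin 3) K) =
        (P : Matrix (Fin 3) (Fin 3) K) * Matrix.diagonal d := by rw [hP, mul_assoc, Units.inv_mul, mul_one]
    ext i j
    have := congrFun (congrFun e i) (π j)
    rw [Matrix.mul_diagonal] at this ⊢
    rw [hQ]
    simpa [Matrix.mul_apply] using this
  have hQd : Q.det ≠ 0 := by
    rw [hQ, show (P : Matrix (Fin 3) (Fin 3) K).submatrix id π =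
      (P : Matrix (Fin 3) (Fin 3) K).submatrix id (π : Fin 3 → Fin 3) from rfl, Matrix.det_permute']
    refine mul_ne_zero ?_ ((Matrix.isUnit_iff_isUnit_det _).1 P.isUnit).ne_zero
    rcases Int.units_eq_one_or (Equiv.Perm.sign π) with e | e <;> simp [e]
  obtain ⟨c, hc⟩ := IsAlgClosed.exists_pow_nat_eq Q.det⁻¹ (by norm_num : 0 < 3)
  obtain ⟨S, hS⟩ : ∃ S : Matrix.SpecialLinearGroup (Fin 3) K, (S : Matrix (Fin 3) (Fin 3) K) = c • Q :=
    ⟨⟨c • Q, by rw [Matrix.det_smul, Fintype.card_fin, hc, inv_mul_cancel₀ hQd]⟩, rfl⟩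
  refine ⟨slHom S⁻¹ * h₁, S⁻¹ * A * S, d ∘ π, ?_, hπ, ?_, ?_⟩
  · have e : (A : Matrix (Fin 3) (Fin 3) K) * (S : Matrix (Fin 3) (Fin 3) K) =
        (S : Matrix (Fin 3) (Fin 3) K) * Matrix.diagonal (d ∘ π) := by
      rw [hS, Matrix.mul_smul, hAQ, Matrix.smul_mul]
    rw [Matrix.SpecialLinearGroup.coe_mul, Matrix.SpecialLinearGroup.coe_mul, mul_assoc, e, ← mul_assoc,
      ← Matrix.SpecialLinearGroup.coe_mul, inv_mul_cancel, Matrix.SpecialLinearGroup.coe_one, one_mul]
  · rw [map_mul, map_mul, hA, mul_inv_rev, ← map_inv, inv_inv]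
    simp only [mul_assoc]
  · intro h1
    refine hne ?_
    have hA1 : A = 1 := conj_eq_one_iff.1 (show S⁻¹ * A * (S⁻¹)⁻¹ = 1 by
      rw [inv_inv]; exact slHom_injective (h1.trans (map_one _).symm))
    rw [hA1, map_one] at hA
    exact conj_eq_one_iff.1 hA.symm

end CfsgLib.Known.G2Oct
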