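import Mathlib

/-!
# Sparse matrices with monomial entries

A list of quadruples `(d, i, j, c)` stands for the matrix sum of `c tᵈ` at the position `(i, j)`.
-/

set_option autoImplicit false

namespace CfsgLib.Known.G2Oct

/-- An entry: degree, row, column, coefficient. -/
abbrev Ent : Type := ℕ × ℕ × ℕ × ℤ

/-- The monomial at the position of an entry. -/
def Ent.hit (e : Ent) (i j : ℕ) : Prop := e.2.1 = i ∧ e.2.2.1 = j

instance (e : Ent) (i j : ℕ) : Decidable (e.hit i j) := inferInstanceAs (Decidable (_ ∧ _))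

variable {R : Type*} [CommRing R]

/-- The value of one entry. -/
def ev1 (n : ℕ) (e : Ent) (t : R) : Matrix (Fin n) (Fin n) R :=
  Matrix.of fun i j => if e.hit i j then (e.2.2.2 : R) * t ^ e.1 else 0

/-- The value of a list of entries. -/
def ev (n : ℕ) (L : List Ent) (t : R) : Matrix (Fin n) (Fin n) R := (L.map fun e => ev1 n e t).sum

theorem ev_nil (n : ℕ) (t : R) : ev n [] t = 0 := rfl

theorem ev_cons (n : ℕ) (e : Ent) (L : List Ent) (t : R) : ev n (e :: L) t = ev1 n e t + ev n L t := by
  simp [ev]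

theorem ev_append (n : ℕ) (L M : List Ent) (t : R) : ev n (L ++ M) t = ev n L t + ev n M t := by
  simp [ev]

theorem ev_flatMap {α : Type*} (n : ℕ) (L : List α) (f : α → List Ent) (t : R) :
    ev n (L.flatMap f) t = (L.map fun x => ev n (f x) t).sum := by
  induction L with
  | nil => rfl
  | cons x L ih => rw [List.flatMap_cons, ev_append, ih, List.map_cons, List.sum_cons]

theorem ev_apply (n : ℕ) (L : List Ent) (t : R) (i j : Fin n) :
    ev n L t i j = (L.map fun e => if e.hit i j then (e.2.2.2 : R) * t ^ e.1 else 0).sum := by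
  induction L with
  | nil => rfl
  | cons e L ih => rw [ev_cons, Matrix.add_apply, ih, List.map_cons, List.sum_cons]; rfl

/-- Multiply an entry list by `c tᵈ`. -/
def pscale (d : ℕ) (c : ℤ) (L : List Ent) : List Ent :=
  L.map fun e => (d + e.1, e.2.1, e.2.2.1, c * e.2.2.2)

theorem ev_pscale (n d : ℕ) (c : ℤ) (L : List Ent) (t : R) :
    ev n (pscale d c L) t = ((c : R) * t ^ d) • ev n L t := by
  induction L with
  | nil => simp [pscale, ev_nil]
  | cons e L ih =>
    rw [pscale, List.map_cons, ev_cons, ← pscale, ih, ev_cons, smul_add]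
    congr 1
    ext i j
    by_cases h : e.hit i j
    · have h' : Ent.hit ((d + e.1, e.2.1, e.2.2.1, c * e.2.2.2) : Ent) i j := h
      simp only [ev1, Matrix.of_apply, Matrix.smul_apply, if_pos h, if_pos h', smul_eq_mul, pow_add]
      push_cast
      ring
    · have h' : ¬ Ent.hit ((d + e.1, e.2.1, e.2.2.1, c * e.2.2.2) : Ent) i j := h
      simp [ev1, if_neg h, if_neg h']

/-- The product of one entry with a list. -/
def pmul1 (e : Ent) (M : List Ent) : List Ent :=
  (M.filter fun f => f.2.1 == e.2.2.1).map fun f => (e.1 + f.1, e.2.1, f.2.2.1, e.2.2.2 * f.2.2.2)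

/-- The product of two lists. -/
def pmul (L M : List Ent) : List Ent := L.flatMap fun e => pmul1 e M

theorem ev1_mul (n : ℕ) (e f : Ent) (he : e.2.2.1 < n) (t : R) :
    ev1 n e t * ev1 n f t =
      if f.2.1 = e.2.2.1 then ev1 n ((e.1 + f.1, e.2.1, f.2.2.1, e.2.2.2 * f.2.2.2) : Ent) t else 0 := by
  ext i j
  rw [Matrix.mul_apply, Finset.sum_eq_single (⟨e.2.2.1, he⟩ : Fin n)]
  · by_cases hf : f.2.1 = e.2.2.1
    · rw [if_pos hf]
      simp only [ev1, Matrix.of_apply, Ent.hit, hf, and_true, true_and]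
      by_cases h1 : e.2.1 = (i : ℕ) <;> by_cases h2 : f.2.2.1 = (j : ℕ) <;> simp [h1, h2, pow_add]
      ring
    · rw [if_neg hf, Matrix.zero_apply]
      simp [ev1, Ent.hit, hf]
  · intro k _ hk
    have : ¬ e.hit i k := fun h => hk (Fin.ext h.2.symm)
    simp [ev1, if_neg this]
  · simp

theorem ev_pmul1 (n : ℕ) (e : Ent) (he : e.2.2.1 < n) (M : List Ent) (t : R) :
    ev n (pmul1 e M) t = ev1 n e t * ev n M t := by
  induction M with
  | nil => simp [pmul1, ev_nil]
  | cons f M ih =>
    rw [ev_cons, mul_add, ← ih, ev1_mul n e f he]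
    by_cases hf : f.2.1 = e.2.2.1
    · simp [pmul1, hf, ev_cons]
    · simp [pmul1, hf]

/-- All columns are in range. -/
def colsLt (n : ℕ) (L : List Ent) : Bool := L.all fun e => Nat.blt e.2.2.1 n

theorem ev_pmul (n : ℕ) (L M : List Ent) (h : colsLt n L = true) (t : R) :
    ev n (pmul L M) t = ev n L t * ev n M t := by
  induction L with
  | nil => simp [pmul, ev_nil]
  | cons e L ih =>
    simp only [colsLt, List.all_cons, Bool.and_eq_true, Nat.blt_eq] at h
    rw [pmul, List.flatMap_cons, ev_append, ev_pmul1 n e h.1, ← pmul, ih h.2, ev_cons, add_mul]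

/-- Two entries lie at the same monomial and position. -/
def sameKey (e f : Ent) : Bool := e.1 == f.1 && e.2.1 == f.2.1 && e.2.2.1 == f.2.2.1

/-- Every monomial at every position has coefficient zero. -/
def zeroChk : ℕ → List Ent → Bool
  | _, [] => true
  | 0, _ :: _ => false
  | k + 1, e :: L => (e.2.2.2 + ((L.filter (sameKey e)).map fun f => f.2.2.2).sum == 0) &&
      zeroChk k (L.filter fun f => !sameKey e f)

theorem ev_sameKey (n : ℕ) (e : Ent) (L : List Ent) (t : R) :
    ev n (L.filter (sameKey e)) t =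
      ev1 n ((e.1, e.2.1, e.2.2.1, ((L.filter (sameKey e)).map fun f => f.2.2.2).sum) : Ent) t := by
  induction L with
  | nil => ext i j; simp [ev_nil, ev1]
  | cons f L ih =>
    by_cases h : sameKey e f = true
    · rw [List.filter_cons_of_pos h, ev_cons, ih]
      simp only [sameKey, Bool.and_eq_true, beq_iff_eq] at h
      obtain ⟨⟨h1, h2⟩, h3⟩ := h
      ext i j
      simp only [List.map_cons, List.sum_cons]
      generalize ((L.filter (sameKey e)).map fun f => f.2.2.2).sum = S
      by_cases hh : f.2.1 = (i : ℕ) ∧ f.2.2.1 = (j : ℕ) <;>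
        simp [ev1, Ent.hit, h1, h2, h3, hh, add_mul]
    · rw [List.filter_cons_of_neg h, ih]

theorem ev_filter_split (n : ℕ) (p : Ent → Bool) (L : List Ent) (t : R) :
    ev n L t = ev n (L.filter p) t + ev n (L.filter fun f => !p f) t := by
  induction L with
  | nil => simp [ev_nil]
  | cons f L ih =>
    by_cases h : p f = true
    · rw [List.filter_cons_of_pos h, List.filter_cons_of_neg (by simp [h]), ev_cons, ev_cons, ih]; abel
    · rw [List.filter_cons_of_neg h, List.filter_cons_of_pos (by simp [h]), ev_cons, ev_cons, ih]; abel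

theorem ev_eq_zero (n : ℕ) : ∀ (k : ℕ) (L : List Ent), zeroChk k L = true → ∀ t : R, ev n L t = 0
  | _, [], _, _ => rfl
  | 0, _ :: _, h, _ => by simp [zeroChk] at h
  | k + 1, e :: L, h, t => by
    simp only [zeroChk, Bool.and_eq_true, beq_iff_eq] at h
    rw [ev_cons, ev_filter_split n (sameKey e) L, ev_sameKey, ev_eq_zero n k _ h.2, add_zero]
    ext i j
    have h0 := h.1
    generalize ((L.filter (sameKey e)).map fun f => f.2.2.2).sum = S at h0
    by_cases hh : e.2.1 = (i : ℕ) ∧ e.2.2.1 = (j : ℕ)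
    · simp [ev1, Ent.hit, hh, ← add_mul, ← Int.cast_add, h0]
    · simp [ev1, Ent.hit, hh]

/-- The two lists have the same value. -/
def eqChk (L M : List Ent) : Bool := zeroChk (L.length + M.length) (L ++ pscale 0 (-1) M)

theorem ev_eq (n : ℕ) {L M : List Ent} (h : eqChk L M = true) (t : R) : ev n L t = ev n M t := by
  have := ev_eq_zero n _ _ h t
  rw [ev_append, ev_pscale] at this
  simpa [sub_eq_zero, add_neg_eq_zero] using this

/-- Change the sign of the parameter. -/
def negT (L : List Ent) : List Ent :=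
  L.map fun e => (e.1, e.2.1, e.2.2.1, if e.1 % 2 = 0 then e.2.2.2 else -e.2.2.2)

theorem ev_negT (n : ℕ) (L : List Ent) (t : R) : ev n (negT L) t = ev n L (-t) := by
  induction L with
  | nil => rfl
  | cons e L ih =>
    rw [negT, List.map_cons, ev_cons, ← negT, ih, ev_cons]
    congr 1
    ext i j
    by_cases h : e.1 % 2 = 0
    · simp [ev1, Ent.hit, h, (Nat.even_iff.2 h).neg_pow]
    · have h' : Odd e.1 := Nat.odd_iff.2 (by omega)
      simp [ev1, Ent.hit, h, h'.neg_pow]

theorem ev_const (n : ℕ) (L : List Ent) (h : (L.all fun e => e.1 == 0) = true) (t : R) :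
    ev n L t = ev n L 1 := by
  induction L with
  | nil => rfl
  | cons e L ih =>
    simp only [List.all_cons, Bool.and_eq_true, beq_iff_eq] at h
    rw [ev_cons, ev_cons, ih h.2]
    congr 1
    ext i j
    simp [ev1, h.1]

/-- The identity list. -/
def idL (n : ℕ) : List Ent := (List.range n).map fun i => (0, i, i, 1)

theorem ev_idL (n : ℕ) (t : R) : ev n (idL n) t = 1 := by
  ext i j
  rw [ev_apply, idL, List.map_map]
  by_cases h : i = j
  · subst h
    rw [Matrix.one_apply_eq, List.sum_map_eq_nsmul_single (i : ℕ)]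
    · simp [Ent.hit, List.count_eq_one_of_mem List.nodup_range (List.mem_range.2 i.2)]
    · intro k hk _; simp [Ent.hit, hk]
  · rw [Matrix.one_apply_ne h, List.sum_eq_zero]
    simp only [List.mem_map]
    rintro x ⟨k, _, rfl⟩
    exact if_neg fun hk => h (Fin.ext (hk.1.symm.trans hk.2))

/-- The list standing for `∑ Y i a • (fam i) * X`. -/
def rhsL (Y : List Ent) (fam : ℕ → List Ent) (X : List Ent) (a : ℕ) : List Ent :=
  (Y.filter fun e => e.2.2.1 == a).flatMap fun e => pscale e.1 e.2.2.2 (pmul (fam e.2.1) X)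

/-- The identity `X * fam a = ∑ Y i a • fam i * X` for all `a < m`. -/
def famChk (n m : ℕ) (X Y : List Ent) (fam : ℕ → List Ent) : Bool :=
  colsLt n X && (Y.all fun e => Nat.blt e.2.1 m && colsLt n (fam e.2.1)) &&
    (List.range m).all fun a => eqChk (pmul X (fam a)) (rhsL Y fam X a)

theorem ev_rhsL (n m : ℕ) (X Y : List Ent) (fam : ℕ → List Ent)
    (hY : ∀ e ∈ Y, e.2.1 < m ∧ colsLt n (fam e.2.1) = true) (a : Fin m) (t : R) :
    ev n (rhsL Y fam X a) t = (∑ i : Fin m, ev m Y t i a • ev n (fam i) t) * ev n X t := by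
  induction Y with
  | nil => simp [rhsL, ev_nil]
  | cons e Y ih =>
    obtain ⟨he1, he2⟩ := hY e List.mem_cons_self
    have ih := ih fun f hf => hY f (List.mem_cons_of_mem _ hf)
    simp only [ev_cons, Matrix.add_apply, add_smul, Finset.sum_add_distrib, add_mul, ← ih]
    by_cases ha : e.2.2.1 = (a : ℕ)
    · have : (rhsL (e :: Y) fam X a) = pscale e.1 e.2.2.2 (pmul (fam e.2.1) X) ++ rhsL Y fam X a := by
        simp [rhsL, ha]
      rw [this, ev_append, ev_pscale, ev_pmul n _ _ he2, Finset.sum_eq_single (⟨e.2.1, he1⟩ : Fin m)]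
      · simp [ev1, Ent.hit, ha]
      · intro k _ hk
        have : ¬ e.hit k a := fun h => hk (Fin.ext h.1.symm)
        simp [ev1, this]
      · simp
    · have : (rhsL (e :: Y) fam X a) = rhsL Y fam X a := by simp [rhsL, ha]
      rw [this, Finset.sum_eq_zero fun k _ => ?_, zero_mul, zero_add]
      have : ¬ e.hit k a := fun h => ha h.2
      simp [ev1, this]

theorem ev_fam {n m : ℕ} {X Y : List Ent} {fam : ℕ → List Ent} (h : famChk n m X Y fam = true) (a : Fin m)
    (t : R) : ev n X t * ev n (fam a) t = (∑ i : Fin m, ev m Y t i a • ev n (fam i) t) * ev n X t := by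
  simp only [famChk, Bool.and_eq_true, List.all_eq_true, Nat.blt_eq, List.mem_range] at h
  rw [← ev_pmul n _ _ h.1.1, ev_eq n (h.2 a a.2), ev_rhsL n m X Y fam (fun e he => h.1.2 e he)]

end CfsgLib.Known.G2Oct
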