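import Cfsg.Agent.Lib.Known.G2Oct.Trace

/-!
# Words in root automorphisms: elements of orders `8`, `9`, `25` and `12`
-/

set_option autoImplicit false

namespace CfsgLib.Known.G2Oct

open Cfsg.Lie (G2)
open CfsgLib.Classical.SylowAb.Octonion
open scoped Matrix

variable {F : Type*} [Field F]

/-- The integer entry of a list at parameter one. -/
def entryI (L : List Ent) (i j : ℕ) : ℤ :=
  (L.map fun e => if e.hit i j then e.2.2.2 else 0).sum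

theorem ev_one_apply (L : List Ent) (i j : Fin 8) : ev 8 L (1 : F) i j = (entryI L i j : F) := by
  rw [ev_apply, entryI]
  induction L with
  | nil => simp
  | cons e L ih =>
    rw [List.map_cons, List.sum_cons, List.map_cons, List.sum_cons, ih, Int.cast_add]
    congr 1
    split_ifs <;> simp

theorem ev_filter_ne_zero (L : List Ent) (t : F) :
    ev 8 (L.filter fun e => e.2.2.2 != 0) t = ev 8 L t := by
  induction L with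
  | nil => rfl
  | cons e L ih =>
    by_cases h : e.2.2.2 = 0
    · rw [List.filter_cons_of_neg (by simp [h]), ev_cons, ih]
      have : ev1 8 e t = 0 := by ext i j; simp [ev1, h]
      rw [this, zero_add]
    · rw [List.filter_cons_of_pos (by simp [h]), ev_cons, ev_cons, ih]

/-- Collect the entries modulo `m`. -/
def reduce (m : ℕ) (L : List Ent) : List Ent :=
  ((List.range 8).flatMap fun i => (List.range 8).map fun j => (0, i, j, entryI L i j % (m : ℤ))).filter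
    fun e => e.2.2.2 != 0

theorem ev_reduce (m : ℕ) [CharP F m] (L : List Ent) : ev 8 (reduce m L) (1 : F) = ev 8 L 1 := by
  ext i j
  rw [ev_one_apply L, reduce, ev_filter_ne_zero, ev_flatMap, ← List.sum_toFinset _ List.nodup_range, Matrix.sum_apply,
    Finset.sum_eq_single (i : ℕ)]
  · rw [ev_apply, List.map_map, ← List.sum_toFinset _ List.nodup_range, Finset.sum_eq_single (j : ℕ)]
    · simp only [Function.comp_apply, Ent.hit, and_self, if_true, one_pow, mul_one]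
      rw [← CharP.intCast_eq_intCast_mod F m]
    · intro k _ hk; simp [Ent.hit, hk]
    · intro h; exact absurd (List.mem_toFinset.2 (List.mem_range.2 j.2)) h
  · intro k _ hk
    rw [ev_apply]
    refine List.sum_eq_zero fun x hx => ?_
    simp only [List.mem_map] at hx
    obtain ⟨_, ⟨l, _, rfl⟩, rfl⟩ := hx
    exact if_neg fun h => hk h.1
  · intro h; exact absurd (List.mem_toFinset.2 (List.mem_range.2 i.2)) h

/-- Equal to the identity modulo `m`. -/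
def isOne (m : ℕ) (L : List Ent) : Bool :=
  (List.range 8).all fun i => (List.range 8).all fun j => (entryI L i j - if i = j then 1 else 0) % (m : ℤ) == 0

theorem eq_one_iff_isOne (m : ℕ) [CharP F m] (L : List Ent) : ev 8 L (1 : F) = 1 ↔ isOne m L = true := by
  simp only [isOne, List.all_eq_true, List.mem_range, beq_iff_eq, ← Int.dvd_iff_emod_eq_zero,
    ← CharP.intCast_eq_zero_iff F m, Int.cast_sub, sub_eq_zero]
  constructor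
  · intro h i hi j hj
    have := congrFun (congrFun h ⟨i, hi⟩) ⟨j, hj⟩
    rw [ev_one_apply] at this
    rw [this, Matrix.one_apply]
    simp only [Fin.ext_iff]
    split_ifs <;> simp
  · intro h
    ext i j
    rw [ev_one_apply, h i i.2 j j.2, Matrix.one_apply]
    simp only [Fin.ext_iff]
    split_ifs <;> simp

/-- Tables for `E8`. -/
def tblE8 : List (List Ent) := [
  [(0, 0, 0, 1), (0, 0, 4, 1), (0, 0, 5, 1), (0, 1, 1, 1), (0, 1, 2, 1), (0, 2, 0, 1), (0, 2, 2, 1), (0, 2, 4, 1), (0, 2, 5, 1), (0, 2, 7, 1), (0, 3, 3, 1), (0, 4, 3, 1), (0, 4, 4, 1), (0, 5, 4, 1), (0, 5, 5, 1), (0, 6, 1, 1), (0, 6, 2, 1), (0, 6, 6, 1), (0, 7, 4, 1), (0, 7, 5, 1), (0, 7, 7, 1)],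
  [(0, 0, 0, 1), (0, 0, 3, 1), (0, 0, 4, 1), (0, 1, 0, 1), (0, 1, 1, 1), (0, 1, 4, 1), (0, 1, 5, 1), (0, 1, 7, 1), (0, 2, 2, 1), (0, 2, 3, 1), (0, 2, 4, 1), (0, 3, 3, 1), (0, 4, 4, 1), (0, 5, 3, 1), (0, 5, 5, 1), (0, 6, 0, 1), (0, 6, 2, 1), (0, 6, 4, 1), (0, 6, 5, 1), (0, 6, 6, 1), (0, 6, 7, 1), (0, 7, 3, 1), (0, 7, 4, 1), (0, 7, 7, 1)],
  [(0, 0, 0, 1), (0, 1, 1, 1), (0, 1, 3, 1), (0, 2, 2, 1), (0, 3, 3, 1), (0, 4, 4, 1), (0, 5, 5, 1), (0, 6, 4, 1), (0, 6, 6, 1), (0, 7, 7, 1)],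
  [(0, 0, 0, 1), (0, 1, 1, 1), (0, 2, 2, 1), (0, 3, 3, 1), (0, 4, 4, 1), (0, 5, 5, 1), (0, 6, 6, 1), (0, 7, 7, 1)]]

/-- Tables for `E9`. -/
def tblE9 : List (List Ent) := [
  [(0, 0, 0, 1), (0, 0, 4, 2), (0, 0, 5, 1), (0, 1, 1, 1), (0, 1, 2, 1), (0, 2, 0, 2), (0, 2, 2, 1), (0, 2, 4, 1), (0, 2, 5, 2), (0, 2, 7, 1), (0, 3, 3, 1), (0, 4, 3, 2), (0, 4, 4, 1), (0, 5, 4, 2), (0, 5, 5, 1), (0, 6, 1, 1), (0, 6, 2, 1), (0, 6, 6, 1), (0, 7, 4, 1), (0, 7, 5, 2), (0, 7, 7, 1)],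
  [(0, 0, 0, 1), (0, 0, 3, 1), (0, 0, 5, 2), (0, 1, 0, 2), (0, 1, 1, 1), (0, 1, 2, 2), (0, 1, 4, 1), (0, 1, 5, 2), (0, 1, 7, 1), (0, 2, 0, 1), (0, 2, 2, 1), (0, 2, 3, 2), (0, 2, 4, 2), (0, 2, 5, 2), (0, 2, 7, 2), (0, 3, 3, 1), (0, 4, 3, 1), (0, 4, 4, 1), (0, 5, 3, 1), (0, 5, 4, 1), (0, 5, 5, 1), (0, 6, 0, 2), (0, 6, 1, 2), (0, 6, 4, 1), (0, 6, 5, 2), (0, 6, 6, 1), (0, 6, 7, 1), (0, 7, 3, 2), (0, 7, 5, 1), (0, 7, 7, 1)],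
  [(0, 0, 0, 1), (0, 0, 3, 1), (0, 1, 1, 1), (0, 1, 3, 2), (0, 1, 5, 1), (0, 2, 2, 1), (0, 2, 4, 2), (0, 3, 3, 1), (0, 4, 4, 1), (0, 5, 5, 1), (0, 6, 0, 2), (0, 6, 3, 2), (0, 6, 4, 1), (0, 6, 6, 1), (0, 6, 7, 1), (0, 7, 3, 2), (0, 7, 7, 1)],
  [(0, 0, 0, 1), (0, 0, 3, 2), (0, 1, 1, 1), (0, 1, 3, 1), (0, 1, 5, 2), (0, 2, 2, 1), (0, 2, 4, 1), (0, 3, 3, 1), (0, 4, 4, 1), (0, 5, 5, 1), (0, 6, 0, 1), (0, 6, 3, 2), (0, 6, 4, 2), (0, 6, 6, 1), (0, 6, 7, 2), (0, 7, 3, 1), (0, 7, 7, 1)],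
  [(0, 0, 0, 1), (0, 1, 1, 1), (0, 2, 2, 1), (0, 3, 3, 1), (0, 4, 4, 1), (0, 5, 5, 1), (0, 6, 6, 1), (0, 7, 7, 1)]]

/-- Tables for `E25`. -/
def tblE25 : List (List Ent) := [
  [(0, 0, 0, 1), (0, 0, 4, 4), (0, 0, 5, 1), (0, 1, 1, 1), (0, 1, 2, 1), (0, 2, 0, 4), (0, 2, 2, 1), (0, 2, 4, 1), (0, 2, 5, 4), (0, 2, 7, 1), (0, 3, 3, 1), (0, 4, 3, 4), (0, 4, 4, 1), (0, 5, 4, 4), (0, 5, 5, 1), (0, 6, 1, 1), (0, 6, 2, 1), (0, 6, 6, 1), (0, 7, 4, 1), (0, 7, 5, 4), (0, 7, 7, 1)],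
  [(0, 0, 0, 1), (0, 0, 3, 1), (0, 0, 4, 2), (0, 0, 5, 2), (0, 1, 0, 4), (0, 1, 1, 1), (0, 1, 2, 2), (0, 1, 4, 1), (0, 1, 5, 4), (0, 1, 7, 1), (0, 2, 0, 3), (0, 2, 2, 1), (0, 2, 3, 4), (0, 2, 5, 1), (0, 2, 7, 2), (0, 3, 3, 1), (0, 4, 3, 3), (0, 4, 4, 1), (0, 5, 3, 1), (0, 5, 4, 3), (0, 5, 5, 1), (0, 6, 0, 4), (0, 6, 1, 2), (0, 6, 2, 3), (0, 6, 4, 1), (0, 6, 5, 4), (0, 6, 6, 1), (0, 6, 7, 1), (0, 7, 3, 4), (0, 7, 4, 3), (0, 7, 5, 3), (0, 7, 7, 1)],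
  [(0, 0, 0, 1), (0, 0, 5, 4), (0, 1, 0, 4), (0, 1, 1, 1), (0, 1, 2, 4), (0, 1, 3, 3), (0, 1, 5, 1), (0, 1, 7, 1), (0, 2, 0, 1), (0, 2, 2, 1), (0, 2, 5, 4), (0, 2, 7, 4), (0, 3, 3, 1), (0, 4, 3, 1), (0, 4, 4, 1), (0, 5, 3, 1), (0, 5, 4, 1), (0, 5, 5, 1), (0, 6, 1, 4), (0, 6, 3, 2), (0, 6, 4, 2), (0, 6, 6, 1), (0, 7, 5, 1), (0, 7, 7, 1)],
  [(0, 0, 0, 1), (0, 1, 1, 1), (0, 1, 3, 3), (0, 2, 2, 1), (0, 3, 3, 1), (0, 4, 4, 1), (0, 5, 5, 1), (0, 6, 4, 2), (0, 6, 6, 1), (0, 7, 7, 1)],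
  [(0, 0, 0, 1), (0, 1, 1, 1), (0, 1, 3, 1), (0, 2, 2, 1), (0, 3, 3, 1), (0, 4, 4, 1), (0, 5, 5, 1), (0, 6, 4, 4), (0, 6, 6, 1), (0, 7, 7, 1)],
  [(0, 0, 0, 1), (0, 1, 1, 1), (0, 1, 3, 2), (0, 2, 2, 1), (0, 3, 3, 1), (0, 4, 4, 1), (0, 5, 5, 1), (0, 6, 4, 3), (0, 6, 6, 1), (0, 7, 7, 1)],
  [(0, 0, 0, 1), (0, 1, 1, 1), (0, 2, 2, 1), (0, 3, 3, 1), (0, 4, 4, 1), (0, 5, 5, 1), (0, 6, 6, 1), (0, 7, 7, 1)]]

/-- Tables for `E12`. -/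
def tblE12 : List (List Ent) := [
  [(0, 0, 6, 1), (0, 0, 7, 1), (0, 1, 1, 1), (0, 1, 5, 1), (0, 2, 2, 1), (0, 2, 4, 1), (0, 3, 1, 1), (0, 3, 5, 1), (0, 3, 6, 1), (0, 4, 0, 1), (0, 4, 2, 1), (0, 4, 3, 1), (0, 4, 6, 1), (0, 4, 7, 1), (0, 5, 1, 1), (0, 6, 0, 1), (0, 6, 3, 1), (0, 6, 6, 1), (0, 6, 7, 1), (0, 7, 0, 1), (0, 7, 6, 1)],
  [(0, 0, 3, 1), (0, 0, 7, 1), (0, 1, 5, 1), (0, 2, 0, 1), (0, 2, 3, 1), (0, 2, 4, 1), (0, 2, 6, 1), (0, 2, 7, 1), (0, 3, 0, 1), (0, 3, 3, 1), (0, 3, 5, 1), (0, 3, 6, 1), (0, 3, 7, 1), (0, 4, 1, 1), (0, 4, 2, 1), (0, 4, 3, 1), (0, 4, 4, 1), (0, 4, 5, 1), (0, 5, 1, 1), (0, 5, 5, 1), (0, 6, 1, 1), (0, 6, 3, 1), (0, 6, 5, 1), (0, 7, 0, 1), (0, 7, 3, 1)],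
  [(0, 0, 5, 1), (0, 0, 6, 1), (0, 0, 7, 1), (0, 1, 1, 1), (0, 1, 5, 1), (0, 2, 2, 1), (0, 2, 3, 1), (0, 2, 4, 1), (0, 2, 5, 1), (0, 2, 6, 1), (0, 3, 5, 1), (0, 3, 6, 1), (0, 4, 2, 1), (0, 4, 3, 1), (0, 5, 1, 1), (0, 6, 0, 1), (0, 6, 1, 1), (0, 6, 3, 1), (0, 6, 5, 1), (0, 6, 6, 1), (0, 6, 7, 1), (0, 7, 0, 1), (0, 7, 5, 1), (0, 7, 6, 1)],
  [(0, 0, 0, 1), (0, 1, 1, 1), (0, 2, 1, 1), (0, 2, 2, 1), (0, 3, 3, 1), (0, 4, 4, 1), (0, 4, 5, 1), (0, 5, 5, 1), (0, 6, 6, 1), (0, 7, 7, 1)],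
  [(0, 0, 0, 1), (0, 1, 1, 1), (0, 2, 2, 1), (0, 3, 3, 1), (0, 4, 4, 1), (0, 5, 5, 1), (0, 6, 6, 1), (0, 7, 7, 1)],
  [(0, 0, 6, 1), (0, 0, 7, 1), (0, 1, 1, 1), (0, 1, 5, 1), (0, 2, 2, 1), (0, 2, 4, 1), (0, 3, 6, 1), (0, 4, 2, 1), (0, 5, 1, 1), (0, 6, 0, 1), (0, 6, 3, 1), (0, 6, 6, 1), (0, 6, 7, 1), (0, 7, 0, 1), (0, 7, 6, 1)]]

/-- One multiplication step. -/
def stepChk (m : ℕ) (A B C : List Ent) : Bool := colsLt 8 A && reduce m (pmul A B) == C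

/-- The group element `g` has the matrix of `L`. -/
def HasMat (g : ↥(G2 F)) (L : List Ent) : Prop :=
  ((g : GL (Fin 8) F) : Matrix (Fin 8) (Fin 8) F) = ev 8 L 1

theorem hasMat_mul (m : ℕ) [CharP F m] {g h : ↥(G2 F)} {A B C : List Ent} (hA : HasMat g A) (hB : HasMat h B)
    (hc : stepChk m A B C = true) : HasMat (g * h) C := by
  simp only [stepChk, Bool.and_eq_true, beq_iff_eq] at hc
  unfold HasMat
  rw [Subgroup.coe_mul, Units.val_mul, hA, hB, ← hc.2, ev_reduce m, ev_pmul 8 _ _ hc.1]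

/-- The root element. -/
def rootG {r : ℕ} (hr : r < 12) : ↥(G2 F) := ⟨rootU hr 1, rootU_mem hr 1⟩

theorem hasMat_root {r : ℕ} (hr : r < 12) : HasMat (rootG (F := F) hr) (rootE r) := rfl

theorem pow_eq_one_iff (m : ℕ) [CharP F m] {g : ↥(G2 F)} {L : List Ent} (h : HasMat g L) :
    g = 1 ↔ isOne m L = true := by
  rw [← eq_one_iff_isOne (F := F) m, ← h]
  exact ⟨fun e => by rw [e]; rfl, fun e => Subtype.ext (Units.ext e)⟩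

theorem hasMat_pow (m : ℕ) [CharP F m] {g : ↥(G2 F)} {a b : ℕ} {A B C : List Ent} (hA : HasMat (g ^ a) A)
    (hB : HasMat (g ^ b) B) (hc : stepChk m A B C = true) : HasMat (g ^ (a + b)) C :=
  pow_add g a b ▸ hasMat_mul m hA hB hc

/-- Entry of a table. -/
def tb (T : List (List Ent)) (k : ℕ) : List Ent := T.getD k []

theorem exists_order_eight [CharP F 2] : ∃ g : ↥(G2 F), orderOf g = 8 := by
  obtain ⟨g, hg⟩ : ∃ g : ↥(G2 F), HasMat g (tb tblE8 0) :=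
    ⟨_, hasMat_mul 2 (hasMat_root (by decide : 7 < 12)) (hasMat_root (by decide : 6 < 12)) (by decide +kernel)⟩
  have h1 : HasMat (g ^ 1) (tb tblE8 0) := by rwa [pow_one]
  have h2 := hasMat_pow 2 h1 h1 (C := tb tblE8 1) (by decide +kernel)
  have h4 := hasMat_pow 2 h2 h2 (C := tb tblE8 2) (by decide +kernel)
  have h8 := hasMat_pow 2 h4 h4 (C := tb tblE8 3) (by decide +kernel)
  haveI : Fact (Nat.Prime 2) := ⟨Nat.prime_two⟩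
  exact ⟨g, orderOf_eq_prime_pow (p := 2) (n := 2)
    (fun e => absurd ((pow_eq_one_iff 2 h4).1 e) (by decide +kernel))
    ((pow_eq_one_iff 2 h8).2 (by decide +kernel))⟩

theorem exists_order_nine [CharP F 3] : ∃ g : ↥(G2 F), orderOf g = 9 := by
  obtain ⟨g, hg⟩ : ∃ g : ↥(G2 F), HasMat g (tb tblE9 0) :=
    ⟨_, hasMat_mul 3 (hasMat_root (by decide : 7 < 12)) (hasMat_root (by decide : 6 < 12)) (by decide +kernel)⟩
  have h1 : HasMat (g ^ 1) (tb tblE9 0) := by rwa [pow_one]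
  have h2 := hasMat_pow 3 h1 h1 (C := tb tblE9 1) (by decide +kernel)
  have h3 := hasMat_pow 3 h2 h1 (C := tb tblE9 2) (by decide +kernel)
  have h6 := hasMat_pow 3 h3 h3 (C := tb tblE9 3) (by decide +kernel)
  have h9 := hasMat_pow 3 h6 h3 (C := tb tblE9 4) (by decide +kernel)
  haveI : Fact (Nat.Prime 3) := ⟨Nat.prime_three⟩
  exact ⟨g, orderOf_eq_prime_pow (p := 3) (n := 1)
    (fun e => absurd ((pow_eq_one_iff 3 h3).1 e) (by decide +kernel))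
    ((pow_eq_one_iff 3 h9).2 (by decide +kernel))⟩

theorem exists_order_twentyfive [CharP F 5] : ∃ g : ↥(G2 F), orderOf g = 25 := by
  obtain ⟨g, hg⟩ : ∃ g : ↥(G2 F), HasMat g (tb tblE25 0) :=
    ⟨_, hasMat_mul 5 (hasMat_root (by decide : 7 < 12)) (hasMat_root (by decide : 6 < 12)) (by decide +kernel)⟩
  have h1 : HasMat (g ^ 1) (tb tblE25 0) := by rwa [pow_one]
  have h2 := hasMat_pow 5 h1 h1 (C := tb tblE25 1) (by decide +kernel)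
  have h4 := hasMat_pow 5 h2 h2 (C := tb tblE25 2) (by decide +kernel)
  have h5 := hasMat_pow 5 h4 h1 (C := tb tblE25 3) (by decide +kernel)
  have h10 := hasMat_pow 5 h5 h5 (C := tb tblE25 4) (by decide +kernel)
  have h20 := hasMat_pow 5 h10 h10 (C := tb tblE25 5) (by decide +kernel)
  have h25 := hasMat_pow 5 h20 h5 (C := tb tblE25 6) (by decide +kernel)
  haveI : Fact (Nat.Prime 5) := ⟨Nat.prime_five⟩
  exact ⟨g, orderOf_eq_prime_pow (p := 5) (n := 1)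
    (fun e => absurd ((pow_eq_one_iff 5 h5).1 e) (by decide +kernel))
    ((pow_eq_one_iff 5 h25).2 (by decide +kernel))⟩

theorem exists_order_twelve [CharP F 2] : ∃ g : ↥(G2 F), orderOf g = 12 := by
  obtain ⟨g, hg⟩ : ∃ g : ↥(G2 F), HasMat g (tb tblE12 0) :=
    ⟨_, hasMat_mul 2 (hasMat_root (by decide : 0 < 12)) (hasMat_mul 2 (hasMat_root (by decide : 2 < 12))
      (hasMat_root (by decide : 9 < 12)) (C := tb tblE12 5) (by decide +kernel)) (by decide +kernel)⟩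
  have h1 : HasMat (g ^ 1) (tb tblE12 0) := by rwa [pow_one]
  have h2 := hasMat_pow 2 h1 h1 (C := tb tblE12 1) (by decide +kernel)
  have h4 := hasMat_pow 2 h2 h2 (C := tb tblE12 2) (by decide +kernel)
  have h6 := hasMat_pow 2 h4 h2 (C := tb tblE12 3) (by decide +kernel)
  have h12 := hasMat_pow 2 h6 h6 (C := tb tblE12 4) (by decide +kernel)
  have e12 := (pow_eq_one_iff 2 h12).2 (by decide +kernel)
  have n4 : g ^ 4 ≠ 1 := fun e => absurd ((pow_eq_one_iff 2 h4).1 e) (by decide +kernel)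
  have n6 : g ^ 6 ≠ 1 := fun e => absurd ((pow_eq_one_iff 2 h6).1 e) (by decide +kernel)
  refine ⟨g, ?_⟩
  have hd := orderOf_dvd_of_pow_eq_one e12
  have a : ¬ orderOf g ∣ 4 := fun h => n4 (orderOf_dvd_iff_pow_eq_one.1 h)
  have b : ¬ orderOf g ∣ 6 := fun h => n6 (orderOf_dvd_iff_pow_eq_one.1 h)
  have := Nat.le_of_dvd (by norm_num) hd
  interval_cases orderOf g <;> omega

end CfsgLib.Known.G2Oct
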