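import Cfsg.Agent.Lib.Known.G2Oct.Bound
import Cfsg.Agent.Lib.Known.G2Oct.Realise
import Cfsg.Agent.Lib.Known.G2Oct.Words

/-!
# The maximal element orders of `G₂(q)`
-/

set_option autoImplicit false

namespace CfsgLib.Known.G2Oct

open Cfsg.Lie (G2 chevG2)

variable {F : Type*} [Field F] [Fintype F]

theorem range_chev_eq : Set.range (orderOf : ↥(chevG2.group F) → ℕ) = Set.range (orderOf : ↥(G2 F) → ℕ) := by
  obtain ⟨e⟩ := nonempty_mulEquiv (F := F)
  ext n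
  constructor
  · rintro ⟨x, rfl⟩; exact ⟨e x, e.orderOf_eq x⟩
  · rintro ⟨x, rfl⟩; exact ⟨e.symm x, e.symm.orderOf_eq x⟩

theorem sq_sub_one_eq (q : ℕ) : q ^ 2 - 1 = (q + 1) * (q - 1) := by rw [← Nat.sq_sub_sq, one_pow]

theorem exists_five {p : ℕ} [Fact p.Prime] [CharP F p] {q : ℕ} (hq : Fintype.card F = q) :
    ∀ n ∈ ({p * (q + 1), p * (q - 1), q ^ 2 - 1, q ^ 2 + q + 1, q ^ 2 - q + 1} : Set ℕ),
      n ∈ Set.range (orderOf : ↥(G2 F) → ℕ) := by
  subst hq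
  intro n hn
  simp only [Set.mem_insert_iff, Set.mem_singleton_iff] at hn
  rcases hn with rfl | rfl | rfl | rfl | rfl
  · exact (exists_mixed_orders (F := F) (p := p)).1
  · exact (exists_mixed_orders (F := F) (p := p)).2
  · exact exists_quadratic
  · exact exists_singer
  · exact exists_minus

/-- Odd characteristic: every element order divides a member of the list. -/
theorem dvd_list_odd {p : ℕ} [Fact p.Prime] [CharP F p] {q : ℕ} (hq : Fintype.card F = q) (hp2 : p ≠ 2)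
    (g : ↥(G2 F)) :
    ∃ n ∈ ({p * (q + 1), p * (q - 1), q ^ 2 - 1, q ^ 2 + q + 1, q ^ 2 - q + 1} : Set ℕ) ∪
        (if p = 3 ∨ p = 5 then ({p ^ 2} : Set ℕ) else ∅), orderOf g ∣ n := by
  rcases order_cases hq g with ⟨n, hn, h⟩ | ⟨n, hn, h⟩ | ⟨e, -⟩ | ⟨-, h, h7⟩
  · refine ⟨p * n, Or.inl ?_, h⟩
    rcases hn with rfl | rfl <;> simp
  · refine ⟨n, Or.inl ?_, h⟩
    rcases hn with rfl | rfl | rfl <;> simp
  · exact absurd e hp2
  · by_cases h35 : p = 3 ∨ p = 5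
    · exact ⟨p ^ 2, Or.inr (by rw [if_pos h35]; rfl), h⟩
    · refine ⟨p * (q + 1), Or.inl (by simp), (h7 ?_).trans (Dvd.intro _ rfl)⟩
      have hp := (Fact.out : p.Prime)
      by_contra hlt
      push Not at h35 hlt
      have := hp.two_le
      interval_cases p <;> first | omega | exact absurd hp (by decide)

/-- No member of the list divides another one. -/
theorem antichain {p q : ℕ} [Fact p.Prime] (hp2 : p ≠ 2) (hpq : p ∣ q) (hq5 : 5 ≤ q) :
    ∀ a ∈ ({p * (q + 1), p * (q - 1), q ^ 2 - 1, q ^ 2 + q + 1, q ^ 2 - q + 1} : Set ℕ) ∪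
        (if p = 3 ∨ p = 5 then ({p ^ 2} : Set ℕ) else ∅),
    ∀ b ∈ ({p * (q + 1), p * (q - 1), q ^ 2 - 1, q ^ 2 + q + 1, q ^ 2 - q + 1} : Set ℕ) ∪
        (if p = 3 ∨ p = 5 then ({p ^ 2} : Set ℕ) else ∅), a ∣ b → b = a := by
  have hp := (Fact.out : p.Prime)
  have hp3 : 3 ≤ p := by have := hp.two_le; omega
  obtain ⟨r, rfl⟩ : ∃ r, q = r + 1 := ⟨q - 1, by omega⟩
  simp only [Nat.add_sub_cancel]
  have hr4 : 4 ≤ r := by omega
  have nd1 : ¬ p ∣ r := fun h => hp.one_lt.ne' (Nat.dvd_one.1 ((Nat.dvd_add_right h).1 hpq))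
  have nd2 : ¬ p ∣ r + 2 := fun h => hp.one_lt.ne' (Nat.dvd_one.1 ((Nat.dvd_add_right hpq).1 h))
  have nd3 : ¬ p ∣ r * (r + 2) := fun h => (hp.dvd_mul.1 h).elim nd1 nd2
  have e1 : (r + 1) ^ 2 - 1 = r * (r + 2) := Nat.sub_eq_of_eq_add (by ring)
  have e2 : (r + 1) ^ 2 - (r + 1) + 1 = r * (r + 1) + 1 := by
    rw [Nat.sub_eq_of_eq_add (show (r + 1) ^ 2 = r * (r + 1) + (r + 1) by ring)]
  have e3 : (r + 1) ^ 2 + (r + 1) + 1 = (r + 1) * (r + 2) + 1 := by ring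
  have e4 : r + 1 + 1 = r + 2 := rfl
  rw [e1, e2, e3, e4]
  have nd4 : ¬ p ∣ (r + 1) * (r + 2) + 1 := fun h =>
    hp.one_lt.ne' (Nat.dvd_one.1 ((Nat.dvd_add_right (hpq.mul_right _)).1 h))
  have nd5 : ¬ p ∣ r * (r + 1) + 1 := fun h =>
    hp.one_lt.ne' (Nat.dvd_one.1 ((Nat.dvd_add_right (hpq.mul_left r)).1 h))
  have cop : ∀ {x y : ℕ}, ¬ p ∣ x → x ∣ p * y → 0 < y → x ≤ y := fun hx h hy =>
    Nat.le_of_dvd hy ((hp.coprime_iff_not_dvd.2 hx).symm.dvd_of_dvd_mul_left h)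
  have sq1 : ∀ {x : ℕ}, ¬ p ∣ x → x ∣ p ^ 2 → x = 1 := fun {x} hx h =>
    Nat.eq_one_of_dvd_coprimes (((hp.coprime_iff_not_dvd.2 hx).symm).pow_right 2) dvd_rfl h
  have sq2 : ∀ {y : ℕ}, ¬ p ∣ y → ¬ p ^ 2 ∣ p * y := fun {y} hy h =>
    hy (Nat.dvd_of_mul_dvd_mul_left hp.pos (by rwa [← pow_two]))
  have sq3 : ∀ {y : ℕ}, y ≠ 1 → ¬ p ∣ y → ¬ p * y ∣ p ^ 2 := fun {y} hy1 hy h => by
    rw [pow_two] at h
    rcases (Nat.dvd_prime hp).1 (Nat.dvd_of_mul_dvd_mul_left hp.pos h) with e | e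
    · exact hy1 e
    · exact hy (e ▸ dvd_rfl)
  have gap : ∀ {x y : ℕ}, x ∣ y → ∀ d, y = x + d → 0 < d → x ≤ d := fun {x y} h d hd h0 =>
    Nat.le_of_dvd h0 ((Nat.dvd_add_right dvd_rfl).1 (hd ▸ h))
  have n1 : ¬ p * (r + 2) ∣ p * r := fun h => by
    have := Nat.le_of_dvd (by omega) (Nat.dvd_of_mul_dvd_mul_left hp.pos h); omega
  have n2 : ¬ p * r ∣ p * (r + 2) := fun h => by
    have := gap (Nat.dvd_of_mul_dvd_mul_left hp.pos h) 2 rfl two_pos; omega
  have n34 : ¬ r * (r + 2) ∣ (r + 1) * (r + 2) + 1 := fun h => by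
    have := gap h (r + 3) (by ring) (by omega); nlinarith
  have n53 : ¬ r * (r + 1) + 1 ∣ r * (r + 2) := fun h => by
    obtain ⟨d, rfl⟩ : ∃ d, r = d + 1 := ⟨r - 1, by omega⟩
    have := gap h d (by ring) (by omega); nlinarith
  have n54 : ¬ r * (r + 1) + 1 ∣ (r + 1) * (r + 2) + 1 := fun h => by
    have := gap h (2 * (r + 1)) (by ring) (by omega); nlinarith
  intro a ha b hb hab
  by_contra hne
  simp only [Set.mem_union, Set.mem_insert_iff, Set.mem_singleton_iff] at ha hb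
  have mk : ∀ {x : ℕ}, x ∈ (if p = 3 ∨ p = 5 then ({p ^ 2} : Set ℕ) else ∅) → x = p ^ 2 := by
    intro x hx; split_ifs at hx with h
    · exact hx
    · exact absurd hx (Set.notMem_empty x)
  replace ha : a = p * (r + 2) ∨ a = p * r ∨ a = r * (r + 2) ∨ a = (r + 1) * (r + 2) + 1 ∨ a = r * (r + 1) + 1 ∨
      a = p ^ 2 := by rcases ha with (h | h | h | h | h) | h <;> first | tauto | (have := mk h; tauto)
  replace hb : b = p * (r + 2) ∨ b = p * r ∨ b = r * (r + 2) ∨ b = (r + 1) * (r + 2) + 1 ∨ b = r * (r + 1) + 1 ∨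
      b = p ^ 2 := by rcases hb with (h | h | h | h | h) | h <;> first | tauto | (have := mk h; tauto)
  rcases ha with rfl | rfl | rfl | rfl | rfl | rfl <;> rcases hb with rfl | rfl | rfl | rfl | rfl | rfl
  · exact hne rfl
  · exact n1 hab
  · exact nd3 ((Dvd.intro _ rfl).trans hab)
  · exact nd4 ((Dvd.intro _ rfl).trans hab)
  · exact nd5 ((Dvd.intro _ rfl).trans hab)
  · exact sq3 (by omega) nd2 hab
  · exact n2 hab
  · exact hne rfl
  · exact nd3 ((Dvd.intro _ rfl).trans hab)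
  · exact nd4 ((Dvd.intro _ rfl).trans hab)
  · exact nd5 ((Dvd.intro _ rfl).trans hab)
  · exact sq3 (by omega) nd1 hab
  · have := cop nd3 hab (by omega); nlinarith
  · have := cop nd3 hab (by omega); nlinarith
  · exact hne rfl
  · exact n34 hab
  · have := Nat.le_of_dvd (Nat.succ_pos _) hab; nlinarith
  · have := sq1 nd3 hab; nlinarith
  · have := cop nd4 hab (by omega); nlinarith
  · have := cop nd4 hab (by omega); nlinarith
  · have := Nat.le_of_dvd (by positivity) hab; nlinarith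
  · exact hne rfl
  · have := Nat.le_of_dvd (Nat.succ_pos _) hab; nlinarith
  · have := sq1 nd4 hab; nlinarith
  · have := cop nd5 hab (by omega); nlinarith
  · have := cop nd5 hab (by omega); nlinarith
  · exact n53 hab
  · exact n54 hab
  · exact hne rfl
  · have := sq1 nd5 hab; nlinarith
  · exact sq2 nd2 hab
  · exact sq2 nd1 hab
  · exact nd3 ((dvd_pow_self p two_ne_zero).trans hab)
  · exact nd4 ((dvd_pow_self p two_ne_zero).trans hab)
  · exact nd5 ((dvd_pow_self p two_ne_zero).trans hab)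
  · exact hne rfl

end CfsgLib.Known.G2Oct
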