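import Mathlib

/-!
# Eigenvalue triples permuted, up to inversion, by a power map
-/

set_option autoImplicit false

namespace CfsgLib.Known.G2Oct

variable {K : Type*} [Field K]

theorem pow_sub_one_eq {x : K} {q : ℕ} (hq : 1 ≤ q) (hx : x ≠ 0) (h : x ^ q = x) : x ^ (q - 1) = 1 := by
  obtain ⟨r, rfl⟩ : ∃ r, q = r + 1 := ⟨q - 1, by omega⟩
  rw [pow_succ] at h
  simpa using mul_right_cancel₀ hx (h.trans (one_mul x).symm)

theorem pow_succ_eq {x : K} {q : ℕ} (hx : x ≠ 0) (h : x ^ q = x⁻¹) : x ^ (q + 1) = 1 := by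
  rw [pow_succ, h, inv_mul_cancel₀ hx]

/-- A power map sending `x` to `x` or its inverse. -/
theorem exp_of_pm {x : K} {q : ℕ} (hq : 1 ≤ q) (hx : x ≠ 0) (h : x ^ q = x ∨ x ^ q = x⁻¹) :
    ∃ n, (n = q - 1 ∨ n = q + 1) ∧ x ^ n = 1 := by
  rcases h with h | h
  · exact ⟨_, Or.inl rfl, pow_sub_one_eq hq hx h⟩
  · exact ⟨_, Or.inr rfl, pow_succ_eq hx h⟩

/-- A fixed eigenvalue. -/
theorem torus_fixed {q : ℕ} (hq : 1 ≤ q) (hinj : ∀ x : K, x ^ q = 1 → x = 1) {a b : K} (hab : a * b = 1)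
    (h : a ^ q = a ∨ a ^ q = b ∨ a ^ q = 1) :
    ∃ n, (n = q - 1 ∨ n = q + 1) ∧ a ^ n = 1 ∧ b ^ n = 1 := by
  have ha : a ≠ 0 := fun e => zero_ne_one (α := K) (by rw [← hab, e, zero_mul])
  have hb : b = a⁻¹ := eq_inv_of_mul_eq_one_right hab
  have h' : a ^ q = a ∨ a ^ q = a⁻¹ := by
    rcases h with h | h | h
    · exact Or.inl h
    · exact Or.inr (hb ▸ h)
    · exact Or.inl (by rw [hinj a h, one_pow])
  obtain ⟨n, hn, e⟩ := exp_of_pm hq ha h'
  exact ⟨n, hn, e, by rw [hb, inv_pow, e, inv_one]⟩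

/-- A repeated eigenvalue `x`, the third one being `x⁻²`. -/
theorem torus_repeat {q : ℕ} (hq : 1 ≤ q) (hinj : ∀ x : K, x ^ q = 1 → x = 1) {x : K} (hx : x ≠ 0) (hx2 : x ^ 2 ≠ 1)
    (h : x ^ q = x ∨ x ^ q = x⁻¹ ∨
      (x ^ q = x ^ 2 ∧ (x ^ 2 = x ∨ x ^ 2 = x⁻¹ ∨ x ^ 2 = (x ^ 2)⁻¹)) ∨
      (x ^ q = (x ^ 2)⁻¹ ∧ ((x ^ 2)⁻¹ = x ∨ (x ^ 2)⁻¹ = x⁻¹ ∨ (x ^ 2)⁻¹ = x ^ 2))) :
    ∃ n, (n = q - 1 ∨ n = q + 1) ∧ x ^ n = 1 := by
  have h4 : ∀ y : K, x ^ q = y → y = x ^ 2 ∨ y = (x ^ 2)⁻¹ → x ^ 2 = (x ^ 2)⁻¹ → False := by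
    intro y hy hy' e
    refine hx2 (hinj _ ?_)
    have hy2 : y = x ^ 2 := by
      rcases hy' with h | h
      · exact h
      · exact h.trans e.symm
    rw [← pow_mul, mul_comm, pow_mul, hy, hy2, ← pow_mul, show 2 * 2 = 2 + 2 from rfl, pow_add]
    exact mul_eq_one_iff_eq_inv₀ (pow_ne_zero _ hx) |>.2 e
  refine exp_of_pm hq hx ?_
  rcases h with h | h | ⟨h, e | e | e⟩ | ⟨h, e | e | e⟩
  · exact Or.inl h
  · exact Or.inr h
  · exact Or.inl (h.trans e)
  · exact Or.inr (h.trans e)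
  · exact (h4 _ h (Or.inl rfl) e).elim
  · exact Or.inl (h.trans e)
  · exact Or.inr (h.trans e)
  · exact (h4 _ h (Or.inr rfl) e.symm).elim

/-- Three distinct eigenvalues with product one, none equal to one. -/
theorem torus_distinct {q : ℕ} (hq : 1 ≤ q) (hinj : ∀ x y : K, x ^ q = y ^ q → x = y) (d : Fin 3 → K)
    (hd : d 0 * d 1 * d 2 = 1) (h1 : ∀ i, d i ≠ 1) (hne : Function.Injective d)
    (h : ∀ i, ∃ j, d i ^ q = d j ∨ d i ^ q = (d j)⁻¹) :
    ∃ n, (n = q ^ 2 - 1 ∨ n = q ^ 2 + q + 1 ∨ n = q ^ 2 - q + 1) ∧ ∀ i, d i ^ n = 1 := by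
  have hd0 : ∀ i, d i ≠ 0 := fun i e => zero_ne_one (α := K) (by
    rw [← hd]; fin_cases i <;> simp_all)
  choose π hπ using h
  have hexc : ∀ i, ∃ ε : ℤ, (ε = 1 ∨ ε = -1) ∧ d i ^ q = d (π i) ^ ε := fun i => by
    rcases hπ i with e | e
    · exact ⟨1, Or.inl rfl, by rw [zpow_one, e]⟩
    · exact ⟨-1, Or.inr rfl, by rw [zpow_neg_one, e]⟩
  choose ε hε he using hexc
  have hthird : ∀ i j : Fin 3, i ≠ j → ∃ k, k ≠ i ∧ k ≠ j ∧ d i * d j * d k = 1 := by
    intro i j hij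
    fin_cases i <;> fin_cases j <;> first | exact absurd rfl hij | skip
    · exact ⟨2, by decide, by decide, hd⟩
    · exact ⟨1, by decide, by decide, by beta_reduce; show d _ * d _ * d _ = 1; simp only [Fin.mk_zero, Fin.mk_one, Fin.reduceFinMk]; linear_combination hd⟩
    · exact ⟨2, by decide, by decide, by beta_reduce; show d _ * d _ * d _ = 1; simp only [Fin.mk_zero, Fin.mk_one, Fin.reduceFinMk]; linear_combination hd⟩
    · exact ⟨0, by decide, by decide, by beta_reduce; show d _ * d _ * d _ = 1; simp only [Fin.mk_zero, Fin.mk_one, Fin.reduceFinMk]; linear_combination hd⟩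
    · exact ⟨1, by decide, by decide, by beta_reduce; show d _ * d _ * d _ = 1; simp only [Fin.mk_zero, Fin.mk_one, Fin.reduceFinMk]; linear_combination hd⟩
    · exact ⟨0, by decide, by decide, by beta_reduce; show d _ * d _ * d _ = 1; simp only [Fin.mk_zero, Fin.mk_one, Fin.reduceFinMk]; linear_combination hd⟩
  have hπi : Function.Injective π := by
    intro i j hij
    by_contra hne'
    by_cases e : ε i = ε j
    · exact hne' (hne (hinj _ _ (by rw [he, he, hij, e])))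
    · have e' : ε i + ε j = 0 := by rcases hε i with a | a <;> rcases hε j with b | b <;> omega
      have : (d i * d j) ^ q = 1 := by
        rw [mul_pow, he, he, hij, ← zpow_add₀ (hd0 _), e', zpow_zero]
      obtain ⟨k, -, -, hk⟩ := hthird i j hne'
      rw [hinj (d i * d j) 1 (this.trans (one_pow q).symm), one_mul] at hk
      exact h1 k hk
  have hperm : d (π 0) * d (π 1) * d (π 2) = 1 := by
    have := (Equiv.ofBijective π (Finite.injective_iff_bijective.1 hπi)).prod_comp (fun i => d i)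
    rw [Fin.prod_univ_three, Fin.prod_univ_three] at this
    exact this.trans hd
  by_cases hm1 : ∃ c, d c * d c = 1
  · -- an eigenvalue `-1`
    obtain ⟨c, hc⟩ := hm1
    have hcval : d c = -1 := by
      rcases mul_eq_zero.1 (show (d c - 1) * (d c + 1) = 0 by linear_combination hc) with e | e
      · exact absurd (sub_eq_zero.1 e) (h1 c)
      · exact eq_neg_of_add_eq_zero_left e
    have hfix : d c ^ q = d c := by
      rw [he c]
      rcases hε c with e | e
      · rw [e, zpow_one]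
        have h2 : d (π c) * d (π c) = 1 := by
          have h3 := he c
          rw [e, zpow_one] at h3
          rw [← h3, ← mul_pow, hc, one_pow]
        rcases mul_eq_zero.1 (show (d (π c) - 1) * (d (π c) + 1) = 0 by linear_combination h2) with e | e
        · exact absurd (sub_eq_zero.1 e) (h1 _)
        · rw [hcval, eq_neg_of_add_eq_zero_left e]
      · rw [e, zpow_neg_one]
        have h2 : d (π c) * d (π c) = 1 := by
          have h3 := he c
          rw [e, zpow_neg_one] at h3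
          rw [← inv_inj, mul_inv, inv_one, ← h3, ← mul_pow, hc, one_pow]
        rcases mul_eq_zero.1 (show (d (π c) - 1) * (d (π c) + 1) = 0 by linear_combination h2) with e | e
        · exact absurd (sub_eq_zero.1 e) (h1 _)
        · rw [hcval, eq_neg_of_add_eq_zero_left e, inv_neg, inv_one]
    refine ⟨q ^ 2 - 1, Or.inl rfl, fun i => ?_⟩
    refine pow_sub_one_eq (Nat.one_le_pow _ _ hq) (hd0 i) ?_
    rw [pow_two, pow_mul]
    by_cases hi : i = c
    · subst hi; rw [hfix, hfix]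
    obtain ⟨j, hji, hjc, hj⟩ := hthird i c hi
    rw [hcval] at hj hfix
    have hdj : d j = -(d i)⁻¹ := by
      rw [eq_neg_iff_add_eq_zero]
      field_simp [hd0 i]
      linear_combination -hj
    have hmem : d i ^ q = d i ∨ d i ^ q = (d i)⁻¹ ∨ d i ^ q = -d i ∨ d i ^ q = -(d i)⁻¹ ∨ d i ^ q = -1 := by
      obtain ⟨k, hk⟩ := hπ i |>.elim (fun e => (⟨π i, Or.inl e⟩ : ∃ k, d i ^ q = d k ∨ d i ^ q = (d k)⁻¹))
        (fun e => ⟨π i, Or.inr e⟩)
      have hcases : k = i ∨ k = c ∨ k = j :=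
        (by decide : ∀ i c j k : Fin 3, i ≠ c → j ≠ i → j ≠ c → k = i ∨ k = c ∨ k = j) i c j k hi hji hjc
      rcases hcases with rfl | rfl | rfl <;> rcases hk with e | e <;>
        first | tauto | (simp [hcval, hdj, inv_neg] at e; tauto)
    have hneg : ∀ y : K, (-y) ^ q = -(y ^ q) := fun y => by
      rw [neg_pow, hfix, neg_one_mul]
    rcases hmem with e | e | e | e | e
    · rw [e, e]
    · rw [e, inv_pow, e, inv_inv]
    · rw [e, hneg, e, neg_neg]
    · rw [e, hneg, inv_pow, e, inv_neg, inv_inv, neg_neg]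
    · exact absurd (hne (hinj _ _ (by rw [e, hcval, hfix]))) hi
  push Not at hm1
  have hu : ε 0 = ε 1 ∧ ε 1 = ε 2 := by
    have hz : d (π 0) ^ ε 0 * d (π 1) ^ ε 1 * d (π 2) ^ ε 2 = 1 := by
      rw [← he, ← he, ← he, ← mul_pow, ← mul_pow, hd, one_pow]
    rcases hε 0 with a | a <;> rcases hε 1 with b | b <;> rcases hε 2 with c | c <;>
      rw [a, b, c] at hz ⊢ <;> simp only [and_self, zpow_one, zpow_neg_one] at hz ⊢ <;>
      exfalso
    all_goals
      have n0 := hd0 (π 0); have n1 := hd0 (π 1); have n2 := hd0 (π 2)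
      field_simp at hz
      first
        | exact hm1 (π 0) (by linear_combination hperm + d (π 0) * hz)
        | exact hm1 (π 0) (by linear_combination hperm - d (π 0) * hz)
        | exact hm1 (π 1) (by linear_combination hperm + d (π 1) * hz)
        | exact hm1 (π 1) (by linear_combination hperm - d (π 1) * hz)
        | exact hm1 (π 2) (by linear_combination hperm + d (π 2) * hz)
        | exact hm1 (π 2) (by linear_combination hperm - d (π 2) * hz)
  obtain ⟨hu0, hu1⟩ := hu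
  have hu : ∀ i, d i ^ q = d (π i) ^ ε 0 := fun i => by
    rw [he i]; fin_cases i <;> simp [← hu1, ← hu0]
  have hq2 : ∀ i, d i ^ q ^ 2 = d (π (π i)) := fun i => by
    rw [pow_two, pow_mul, hu, ← zpow_natCast, zpow_comm, zpow_natCast, hu, ← zpow_mul]
    rcases hε 0 with a | a <;> rw [a] <;> norm_num
  by_cases hinv : ∀ i, π (π i) = i
  · exact ⟨q ^ 2 - 1, Or.inl rfl, fun i => pow_sub_one_eq (Nat.one_le_pow _ _ hq) (hd0 i) (by rw [hq2, hinv])⟩
  have hcyc : ∀ i, π i ≠ i ∧ π (π i) ≠ i ∧ π (π i) ≠ π i := by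
    have key : ∀ π : Fin 3 → Fin 3, (∀ i j, π i = π j → i = j) → ¬ (∀ i, π (π i) = i) →
        ∀ i, π i ≠ i ∧ π (π i) ≠ i ∧ π (π i) ≠ π i := by decide
    exact key π (fun i j => @hπi i j) hinv
  have hprod : ∀ i, d i * d (π i) * d (π (π i)) = 1 := fun i => by
    obtain ⟨a, b, c⟩ := hcyc i
    obtain ⟨k, hk1, hk2, hk⟩ := hthird i (π i) a.symm
    have key : ∀ i j k l : Fin 3, k ≠ i → k ≠ j → l ≠ i → l ≠ j → i ≠ j → k = l := by decide
    rw [← key _ _ _ _ hk1 hk2 b c a.symm]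
    exact hk
  rcases hε 0 with a | a
  · refine ⟨q ^ 2 + q + 1, Or.inr (Or.inl rfl), fun i => ?_⟩
    rw [pow_succ, pow_add, hq2, hu, a, zpow_one]
    linear_combination hprod i
  · refine ⟨q ^ 2 - q + 1, Or.inr (Or.inr rfl), fun i => ?_⟩
    rw [pow_succ, pow_sub₀ _ (hd0 i) (Nat.le_self_pow (by norm_num) q), hq2, hu, a, zpow_neg_one, inv_inv]
    linear_combination hprod i

end CfsgLib.Known.G2Oct
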